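import Cfsg.Agent.A8Three.Model

/-!
The extraspecial subgroup of even weight in the model.
-/

set_option autoImplicit false
set_option linter.style.longLine false
set_option maxRecDepth 100000

namespace CfsgLib.A8Three

/-- Congruence modulo the centre. -/
def Eqz (x y : T) : Prop := y = x ∨ y = x * zz

instance : DecidableRel Eqz := fun x y => inferInstanceAs (Decidable (_ ∨ _))

/-- The four group in the even base, modulo the centre. -/
def Pair (c : T) : Prop := c.p = 0 ∧ ev c.a = true ∧ c ≠ 1 ∧ c ≠ zz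

instance : DecidablePred Pair := fun c => inferInstanceAs (Decidable (c.p = 0 ∧ _))

theorem evens_eqz {x : T} (hx : ev x.a = true) : ev (x * zz).a = true :=
  mem_evens.1 (mul_mem (show x ∈ evens from hx) (show zz ∈ evens from (by decide : ev zz.a = true)))

theorem zz_sq : zz * zz = 1 := by decide +kernel

theorem eqz_refl (x : T) : Eqz x x := Or.inl rfl

theorem eqz_symm {x y : T} (h : Eqz x y) : Eqz y x := by
  rcases h with rfl | rfl
  · exact Or.inl rfl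
  · exact Or.inr (by rw [mul_assoc, zz_sq, mul_one])

theorem eqz_trans {x y w : T} (h : Eqz x y) (h' : Eqz y w) : Eqz x w := by
  rcases h with rfl | rfl <;> rcases h' with rfl | rfl
  · exact Or.inl rfl
  · exact Or.inr rfl
  · exact Or.inr rfl
  · exact Or.inl (by rw [mul_assoc, zz_sq, mul_one])

theorem even_sq : ∀ x : T, ev x.a = true → x * x = 1 ∨ x * x = zz := by decide +kernel

theorem even_card_pts : ∀ i j : Fin 8,
    let f : Fin 8 → T := fun k => ⟨![0, 3, 5, 6, 0, 3, 5, 6] k, if k.val < 4 then 0 else 1⟩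
    ev (f i).a = true ∧ (Eqz (f i) (f j) → i = j) := by decide +kernel

theorem pair_of_base : ∀ x : T, x.p = 0 → ev x.a = true → x = 1 ∨ x = zz ∨ Pair x := by decide +kernel

theorem pair_exists : ∀ r : T, ev r.a = true → r.p ≠ 0 → ∃ a : Fin 16, Pair ⟨a, 0⟩ ∧ r * ⟨a, 0⟩ = ⟨a, 0⟩ * r := by
  decide +kernel

theorem pair_unique : ∀ r : T, ev r.a = true → r.p ≠ 0 → ∀ a b : Fin 16, Pair ⟨a, 0⟩ → Pair ⟨b, 0⟩ →
    r * ⟨a, 0⟩ = ⟨a, 0⟩ * r → r * ⟨b, 0⟩ = ⟨b, 0⟩ * r → Eqz ⟨a, 0⟩ ⟨b, 0⟩ := by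
  decide +kernel

theorem pair_third : ∀ a b c : Fin 16, Pair ⟨a, 0⟩ → Pair ⟨b, 0⟩ → Pair ⟨c, 0⟩ → ¬ Eqz ⟨a, 0⟩ ⟨b, 0⟩ →
    ¬ Eqz ⟨a, 0⟩ ⟨c, 0⟩ → Eqz ⟨b, 0⟩ ⟨c, 0⟩ ∨ Eqz (⟨a, 0⟩ * ⟨b, 0⟩) ⟨c, 0⟩ := by decide +kernel

theorem pairs_self : ∀ d : T, ev d.a = true → (∀ a : Fin 16, ev a = true → d * ⟨a, 0⟩ = ⟨a, 0⟩ * d) → d.p = 0 := by
  decide +kernel

theorem evens_conj : ∀ x y : T, ev x.a = true → ev (y * x * y⁻¹).a = true := by decide +kernel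

theorem zz_inv : zz⁻¹ = zz := by decide +kernel

theorem base_bits : ∀ a : Fin 16, (⟨a, 0⟩ : T) =
    (⟨1, 0⟩ : T) ^ (a.val % 2) * ((⟨2, 0⟩ : T) ^ (a.val / 2 % 2) * ((⟨4, 0⟩ : T) ^ (a.val / 4 % 2) * (⟨8, 0⟩ : T) ^ (a.val / 8))) := by
  decide +kernel

theorem bits_parity : ∀ a : Fin 16,
    (Multiplicative.ofAdd (1 : ZMod 2)) ^ (a.val % 2 + (a.val / 2 % 2 + (a.val / 4 % 2 + a.val / 8))) =
      if ev a = true then 1 else Multiplicative.ofAdd (1 : ZMod 2) := by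
  decide +kernel

theorem tau_out : ∀ p : Fin 4, p ≠ 0 → ty ⟨0, p⟩ = 3 := by decide +kernel

theorem tau_mul : (⟨0, 1⟩ : T) * ⟨0, 2⟩ = ⟨0, 3⟩ := by decide +kernel

theorem cent_evens : ∀ x : T, (∀ a : Fin 16, ev a = true → x * ⟨a, 0⟩ = ⟨a, 0⟩ * x) → x.p = 0 := by decide +kernel

theorem base_odd : ∀ a : Fin 16, ev a = false → ∃ b : Fin 16, ev b = true ∧ (⟨a, 0⟩ : T) = ⟨7, 0⟩ * ⟨b, 0⟩ := by
  decide +kernel

theorem seven : ty ⟨7, 0⟩ = 1 ∧ ev (7 : Fin 16) = false ∧ ev (3 : Fin 16) = true ∧ Pair ⟨3, 0⟩ := by decide +kernel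

theorem not_zz_seven : ∀ x : T, ty x = 1 → ev x.a = true → x = zz := by decide +kernel

theorem eqz_mul {x y u v : T} (h : Eqz x y) (h' : Eqz u v) : Eqz (x * u) (y * v) := by
  rcases h with rfl | rfl <;> rcases h' with rfl | rfl
  · exact Or.inl rfl
  · exact Or.inr (by rw [mul_assoc])
  · exact Or.inr (by rw [mul_assoc, ← zz_comm, ← mul_assoc])
  · exact Or.inl (by rw [mul_assoc x zz, ← mul_assoc zz u, ← zz_comm, mul_assoc u, zz_sq, mul_one])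

theorem even_comm : ∀ x : T, ev x.a = true → ∀ a : Fin 16, ev a = true → Eqz ⟨a, 0⟩ (x⁻¹ * ⟨a, 0⟩ * x) := by
  decide +kernel

theorem evens_index : ∀ x : T, ev (x * ⟨1, 0⟩).a = !ev x.a := by decide +kernel

theorem signs : (Multiplicative.ofAdd (1 : ZMod 2) ≠ 1) ∧
    ∀ t : Multiplicative (ZMod 2), t ≠ Multiplicative.ofAdd (1 : ZMod 2) → t = 1 := by decide

theorem rot_const : ∀ d : Fin 4 → Multiplicative (ZMod 2), d 0 = 1 → d 1 * d 2 = d 3 →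
    (∀ p : Fin 4, p ≠ 0 → ∃ q : Fin 4, q ≠ 0 ∧ q ≠ p ∧ d p = d q) → ∀ p, d p = 1 := by decide +kernel

end CfsgLib.A8Three
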