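import Cfsg.Agent.A8Three.Central

/-!
Centralizers in the base are `O(C) N(A)`, odd invariant subgroups lie in the cores, and the base is normal modulo
the core.
-/

set_option autoImplicit false
set_option linter.unusedSectionVars false
set_option linter.style.haveILetI false
set_option maxRecDepth 100000

namespace CfsgLib.A8Three

open Subgroup CfsgLib.SylL34

theorem cn_zz : ty zz = 1 := by decide +kernel
theorem pair_coords : ty ⟨3, 0⟩ = 2 ∧ ty ⟨14, 0⟩ = 1 ∧ ty ⟨13, 0⟩ = 1 ∧ (⟨14, 0⟩ : T) * ⟨3, 0⟩ = ⟨13, 0⟩ ∧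
    (⟨0, 1⟩ : T) * ⟨13, 0⟩ * (⟨0, 1⟩ : T)⁻¹ = ⟨14, 0⟩ ∧ (⟨0, 1⟩ : T) * ⟨14, 0⟩ * (⟨0, 1⟩ : T)⁻¹ = ⟨13, 0⟩ ∧
    (⟨0, 1⟩ : T) * ⟨3, 0⟩ = ⟨3, 0⟩ * ⟨0, 1⟩ ∧ (⟨14, 0⟩ : T) * ⟨14, 0⟩ = 1 ∧ (⟨3, 0⟩ : T) * ⟨3, 0⟩ = 1 := by
  decide +kernel
theorem pair_isolated : ∀ y : T, ty y = 1 → ty (y * ⟨3, 0⟩) = 1 → y = ⟨14, 0⟩ ∨ y = ⟨13, 0⟩ := by decide +kernel
theorem out_isolated : ∀ x y : T, ty x = 3 → ty y = 1 → y * x = x * y → y = zz := by decide +kernel
theorem out_four : ∀ x : T, ty x = 3 → elems.countP (fun w : T => decide (w.p = 0 ∧ w * x = x * w)) = 4 := by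
  decide +kernel
theorem cn_two_le : ∀ y : T, ty y = ty (⟨3, 0⟩ : T) → cn y ≤ cn ⟨3, 0⟩ := fun y hy => by
  rw [cn_pair]; exact cn_two y (hy.trans pair_coords.1)
theorem cn_three_le : ∀ x : T, ty x = 3 → ∀ y : T, ty y = ty x → cn y ≤ cn x := fun x hx y hy => by
  rw [cn_three x hx, cn_three y (hy.trans hx)]

variable {G : Type*} [Group G] [Finite G] {S : Sylow 2 G} {el : T →* G}

/-- The centralizer splits over the core and the normalizer of `A`. -/
def Good (A : Subgroup G) (x : G) : Prop :=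
  ∀ g ∈ centralizer ({x} : Set G), ∃ o ∈ Oc x, ∃ n ∈ normalizer (A : Set G), g = o * n

theorem mem_Oc_of {x : G} {o : centralizer ({x} : Set G)} (ho : o ∈ Cfsg.oddCore (centralizer ({x} : Set G))) :
    (o : G) ∈ Oc x := mem_Oc_iff.2 ⟨o.2, ho⟩

theorem Good.le {A M : Subgroup G} {x : G} (h : Good A x) (hO : Oc x ≤ M) (hA : normalizer (A : Set G) ≤ M) :
    centralizer ({x} : Set G) ≤ M := fun g hg => by
  obtain ⟨o, ho, n, hn, rfl⟩ := h g hg
  exact mul_mem (hO ho) (hA hn)

theorem Good.conj {A : Subgroup G} {x m : G} (h : Good A x) (hm : m ∈ normalizer (A : Set G)) :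
    Good A (m * x * m⁻¹) := fun g hg => by
  obtain ⟨o, ho, n, hn, e⟩ := h (m⁻¹ * g * m) (cent_conj.1 hg)
  exact ⟨m * o * m⁻¹, conj_mem_Oc ho, m * n * m⁻¹, mul_mem (mul_mem hm hn) (inv_mem hm), by
    calc g = m * (m⁻¹ * g * m) * m⁻¹ := by group
      _ = m * (o * n) * m⁻¹ := by rw [e]
      _ = _ := by group⟩

namespace Cfg

variable (D : Cfg S el)
include D

theorem cent_el (x : T) : ((S : Subgroup G) ⊓ centralizer ({el x} : Set G)) = (centralizer ({x} : Set T)).map el := by
  ext g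
  constructor
  · rintro ⟨hg, hgx⟩
    obtain ⟨w, rfl⟩ := D.exists_el hg
    refine mem_map_of_mem el (mem_centralizer_singleton_iff.2 (D.inj ?_))
    rw [map_mul, map_mul]
    exact mem_centralizer_singleton_iff.1 hgx
  · rintro ⟨w, hw, rfl⟩
    exact ⟨D.mem_S w, mem_centralizer_singleton_iff.2 (by
      rw [← map_mul, ← map_mul, mem_centralizer_singleton_iff.1 hw])⟩

theorem card_cent (x : T) : Nat.card ((S : Subgroup G) ⊓ centralizer ({el x} : Set G) : Subgroup G) = cn x := by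
  rw [D.cent_el, card_map_of_injective D.inj, cn_eq]

theorem cent_sylow {x : T} (hx : ty x ≠ 0) (hmax : ∀ y : T, ty y = ty x → cn y ≤ cn x) :
    ∃ P : Sylow 2 (centralizer ({el x} : Set G)), ∀ h : centralizer ({el x} : Set G),
      h ∈ (P : Subgroup (centralizer ({el x} : Set G))) → ∃ w : T, w * x = x * w ∧ el w = (h : G) := by
  obtain ⟨P, hP⟩ := exists_sylow_eq (inf_le_right : (S : Subgroup G) ⊓ centralizer ({el x} : Set G) ≤ _)
    (S.2.to_le inf_le_left) fun R hR hPR hRC => by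
    obtain ⟨g, hg⟩ := exists_cj_le S hR
    have hxR : el x ∈ R := hPR ⟨D.mem_S x, mem_centralizer_singleton_iff.2 rfl⟩
    obtain ⟨y, hy, hyt⟩ := D.conj_into hx (hg (conj_mem_cj.2 hxR))
    have hle : cj g R ≤ (S : Subgroup G) ⊓ centralizer ({el y} : Set G) := by
      refine le_inf hg ?_
      rw [hy, ← cj_centralizer]
      exact map_mono hRC
    have h := card_le_of_le hle
    rw [card_cj, D.card_cent y] at h
    exact (eq_of_le_of_card_ge hPR (by rw [D.card_cent x]; exact h.trans (hmax y hyt))).ge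
  refine ⟨P, fun h hh => ?_⟩
  rw [hP, mem_subgroupOf, D.cent_el] at hh
  obtain ⟨w, hw, e⟩ := hh
  exact ⟨w, mem_centralizer_singleton_iff.1 hw, e⟩

theorem good_zz : Good (base.map el) (el zz) := by
  set C := centralizer ({el zz} : Set G)
  have hS : (S : Subgroup G) ≤ C := fun g hg => by
    obtain ⟨x, rfl⟩ := D.exists_el hg
    exact mem_centralizer_singleton_iff.2 (by rw [← map_mul, ← map_mul, zz_comm])
  have hN : normalizer ((S : Subgroup G) : Set G) ≤ C := fun n hn =>
    mem_centralizer_singleton_iff.2 (mul_inv_eq_iff_eq_mul.1 (D.normS_zz hn))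
  have D' := D.restrict C hS hN
  intro g hg
  obtain ⟨o, ho, n, hn, e⟩ := D'.central (fun h => Subtype.ext (mem_centralizer_singleton_iff.1 h.2)) ⟨g, hg⟩
  refine ⟨o, mem_Oc_of ho, n, mem_normalizer_of_conj_mem ?_, congrArg Subtype.val e⟩
  rintro _ ⟨x, hx, rfl⟩
  obtain ⟨y, hy, e'⟩ := conj_mem_of_normalizer hn (mem_map_of_mem _ hx)
  exact ⟨y, hy, congrArg Subtype.val e'⟩

/-- An odd subgroup of a centralizer in the base normalised by the base lies in the core. -/
theorem le_Oc_of_base {x : T} (hx : x.p = 0) (h : Good (base.map el) (el x)) {X : Subgroup G}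
    (hXC : X ≤ centralizer ({el x} : Set G)) (hodd : Odd (Nat.card X))
    (hXA : base.map el ≤ normalizer (X : Set G)) : X ≤ Oc (el x) := by
  set A := base.map el
  have hxA : el x ∈ A := mem_map_of_mem el hx
  have hAC : A ≤ centralizer ({el x} : Set G) := fun a ha =>
    mem_centralizer_singleton_iff.2 (comm_of_sq D.base_sq ha hxA)
  have hCA : centralizer (A : Set G) ≤ centralizer ({el x} : Set G) := fun c hc =>
    mem_centralizer_singleton_iff.2 (mem_centralizer_iff.1 hc _ hxA).symm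
  have hAA : A ≤ centralizer (A : Set G) := fun a ha => mem_centralizer_iff.2 fun b hb => comm_of_sq D.base_sq hb ha
  obtain ⟨-, h2⟩ := twoNil_sub hAA (isPGroup_of_sq D.base_sq)
    (fun R hR hAR hRC => by
      obtain ⟨g, hg⟩ := exists_cj_le (S.subtype D.S_le)
        (P := R.subgroupOf (normalizer (A : Set G))) hR.comap_subtype
      intro r hr
      have hrN : r ∈ normalizer (A : Set G) := centralizer_le_normalizer (A : Set G) (hRC hr)
      have h1 := hg ((conj_mem_cj (g := g)).2 (show (⟨r, hrN⟩ : normalizer (A : Set G)) ∈ R.subgroupOf _ from hr))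
      rw [Sylow.coe_subtype, mem_subgroupOf] at h1
      obtain ⟨w, hw⟩ := D.exists_el h1
      have hw' : el w = (g : G) * r * (g : G)⁻¹ := hw
      have hwp : w.p = 0 := base_self w fun y hy => D.inj (by
        rw [map_mul, map_mul, hw']
        have hy' := conj_mem_of_normalizer (inv_mem g.2) (mem_map_of_mem el (show y ∈ base from hy))
        rw [inv_inv] at hy'
        calc (g : G) * r * (g : G)⁻¹ * el y = g * (r * ((g : G)⁻¹ * el y * g)) * (g : G)⁻¹ := by group
          _ = g * ((g : G)⁻¹ * el y * g * r) * (g : G)⁻¹ := by rw [mem_centralizer_iff.1 (hRC hr) _ hy']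
          _ = el y * (g * r * (g : G)⁻¹) := by group)
      have h3 : (g : G) * r * (g : G)⁻¹ ∈ A := hw' ▸ mem_map_of_mem el hwp
      have h4 := conj_mem_of_normalizer (inv_mem g.2) h3
      rwa [show (g : G)⁻¹ * ((g : G) * r * (g : G)⁻¹) * ((g : G)⁻¹)⁻¹ = r by group] at h4)
    (fun n hn _ p hp => (mem_centralizer_iff.1 hn p hp).symm)
  have hO : LocalBalance.core 2 (centralizer (A : Set G)) ≤ Oc (el x) :=
    le_Oc_of_mod ((LocalBalance.core_le _).trans hCA) (core_odd _) fun g hg => by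
      obtain ⟨o, ho, n, hn, rfl⟩ := h g hg
      refine ⟨o, ho, n, LocalBalance.normalizer_le_normalizer_core _
        (LocalBalance.normalizer_le_normalizer_centralizer A hn), ?_, rfl⟩
      have h1 := mul_mem (inv_mem (Oc_le _ ho)) hg
      rw [inv_mul_cancel_left] at h1
      exact mem_centralizer_singleton_iff.1 h1
  have hXO : X ≤ normalizer (Oc (el x) : Set G) := hXC.trans (cent_le_normalizer_Oc _)
  have hoddH : Odd (Nat.card (Oc (el x) ⊔ X : Subgroup G)) := by
    rw [sup_comm]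
    exact Odd.of_dvd_nat (hodd.mul (Oc_odd _)) (Solvable.card_sup_dvd hXO)
  intro d hd
  obtain ⟨o, ho, n, hn, rfl⟩ := h d (hXC hd)
  set H := Oc (el x) ⊔ X
  have hnH : n ∈ H := by
    have := mul_mem (inv_mem (mem_sup_left ho : o ∈ H)) (mem_sup_right hd)
    rwa [inv_mul_cancel_left] at this
  have hnC : n ∈ centralizer (A : Set G) := by
    refine mem_centralizer_iff.2 fun a ha => ?_
    have hAH : a ∈ normalizer (H : Set G) := join_normalized (cent_le_normalizer_Oc _ (hAC ha)) (hXA ha)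
    have h1 : n * a * n⁻¹ * a⁻¹ ∈ H := by
      rw [show n * a * n⁻¹ * a⁻¹ = n * (a * n⁻¹ * a⁻¹) by group]
      exact mul_mem hnH (conj_mem_of_normalizer hAH (inv_mem hnH))
    have h2 : n * a * n⁻¹ * a⁻¹ ∈ A := mul_mem (conj_mem_of_normalizer hn ha) (inv_mem ha)
    exact (mul_inv_eq_iff_eq_mul.1 (mul_inv_eq_one.1 (eq_one_of_sq_odd (D.base_sq _ h2) (odd_orderOf_of_mem hoddH h1)))).symm
  exact mul_mem ho (hO (h2 n hnC (odd_orderOf_of_mem hoddH hnH)))

/-- Balance inside a centralizer. -/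
theorem inf_le_Oc {x y : T} (hx : x.p = 0) (hy : y.p = 0) (h : Good (base.map el) (el y)) :
    Oc (el x) ⊓ centralizer ({el y} : Set G) ≤ Oc (el y) := by
  refine D.le_Oc_of_base hy h inf_le_right (Odd.of_dvd_nat (Oc_odd (el x)) (card_dvd_of_le inf_le_left))
    fun a ha => inf_normalizer_le_normalizer_inf ⟨cent_le_normalizer_Oc _ ?_, le_normalizer ?_⟩ <;>
  exact mem_centralizer_singleton_iff.2 (comm_of_sq D.base_sq ha (mem_map_of_mem el (by assumption)))

theorem good_one {h : ∀ x : T, ty x = 1 → ∃ n ∈ normalizer (base.map el : Set G), n * el zz * n⁻¹ = el x} {x : T}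
    (hx : ty x = 1) : Good (base.map el) (el x) := by
  obtain ⟨n, hn, e⟩ := h x hx
  exact e ▸ D.good_zz.conj hn

theorem good_pair (h : ∀ x : T, ty x = 1 → ∃ n ∈ normalizer (base.map el : Set G), n * el zz * n⁻¹ = el x) :
    Good (base.map el) (el ⟨3, 0⟩) := by
  have : Fact (Nat.Prime 2) := ⟨Nat.prime_two⟩
  obtain ⟨h3, h14, h13, hprod, hv13, hv14, hv3, hu2, hb2⟩ := pair_coords
  set b : T := ⟨3, 0⟩ with hbdef
  set u : T := ⟨14, 0⟩ with hudef
  set v : T := ⟨0, 1⟩ with hvdef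
  have hu0 : u.p = 0 := rfl
  have hb0 : b.p = 0 := rfl
  set C := centralizer ({el b} : Set G)
  obtain ⟨P, hP⟩ := D.cent_sylow (x := b) (by rw [h3]; decide) cn_two_le
  set bC : C := ⟨el b, mem_centralizer_singleton_iff.2 rfl⟩
  set uC : C := ⟨el u, mem_centralizer_singleton_iff.2 (comm_of_sq D.base_sq (mem_map_of_mem el hu0) (mem_map_of_mem el hb0))⟩
  have hbcen : ∀ g : C, g * bC = bC * g := fun g => Subtype.ext (mem_centralizer_singleton_iff.1 g.2)
  have hbsq : bC * bC = 1 := Subtype.ext (by show el b * el b = 1; rw [← map_mul, hb2, map_one])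
  haveI : (zpowers bC).Normal := by
    refine ⟨fun x hx g => ?_⟩
    obtain ⟨i, rfl⟩ := mem_zpowers_iff.1 hx
    rwa [((show Commute g bC from hbcen g).zpow_right i).eq, mul_inv_cancel_right]
  set f := QuotientGroup.mk' (zpowers bC)
  have hf : Function.Surjective f := QuotientGroup.mk'_surjective _
  have hfb : f bC = 1 := (QuotientGroup.eq_one_iff bC).2 (mem_zpowers bC)
  have hfeq : ∀ p q : C, f p = f q → p = q ∨ p = q * bC := by
    intro p q e
    obtain ⟨i, hi⟩ := mem_zpowers_iff.1 ((QuotientGroup.eq_one_iff (q⁻¹ * p)).1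
      (show f (q⁻¹ * p) = 1 by rw [map_mul, map_inv, e, inv_mul_cancel]))
    rcases Int.even_or_odd i with ⟨j, rfl⟩ | ⟨j, rfl⟩
    · rw [zpow_add, ← (Commute.refl bC).mul_zpow, hbsq, one_zpow, eq_comm, inv_mul_eq_one] at hi
      exact Or.inl hi.symm
    · rw [zpow_add, two_mul, zpow_add, ← (Commute.refl bC).mul_zpow, hbsq, one_zpow, one_mul, zpow_one] at hi
      exact Or.inr (by rw [hi, mul_inv_cancel_left])
  -- the conjugates of `u` in the Sylow subgroup modulo `b`
  have hiso : Cfsg.IsIsolatedInvolution (f uC) := by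
    refine Invol.isolated_of_sylow (P.mapSurjective hf) (order_two ?_ ?_) fun g hg => ?_
    · rw [← map_mul, show uC * uC = 1 from Subtype.ext (by show el u * el u = 1; rw [← map_mul, hu2, map_one]), map_one]
    · intro e
      rcases hfeq uC 1 (e.trans (map_one f).symm) with e | e
      · exact absurd (D.el_eq_one.1 (congrArg Subtype.val e)) (by decide +kernel)
      · rw [one_mul] at e
        exact absurd (D.inj (congrArg Subtype.val e)) (by decide +kernel)
    obtain ⟨g, rfl⟩ := hf g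
    rw [← map_mul, ← map_inv, ← map_mul] at hg ⊢
    obtain ⟨q, hq, hqe⟩ := hg
    obtain ⟨w, hw, hwq⟩ := hP q hq
    have key : ∃ y, el y = (g : G) * el u * (g : G)⁻¹ := by
      rcases hfeq _ _ hqe with e | e <;> have e' := congrArg Subtype.val e
      · exact ⟨w, hwq.trans e'⟩
      · refine ⟨w * b, ?_⟩
        rw [map_mul, hwq]
        change (q : G) = (g : G) * el u * (g : G)⁻¹ * el b at e'
        rw [e', mul_assoc, ← map_mul, hb2, map_one, mul_one]
    obtain ⟨y, hy⟩ := key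
    have hy1 : ty y = 1 := (D.conj_ty (by rw [h14]; decide) hy.symm).trans h14
    have hy2 : ty (y * b) = 1 := (D.conj_ty (x := u * b) (g := (g : G)) (by rw [hprod, h13]; decide) (by
      rw [map_mul, map_mul, hy, show (g : G) * (el u * el b) * (g : G)⁻¹ = g * el u * (el b * (g : G)⁻¹) by group,
        ← mem_centralizer_singleton_iff.1 (inv_mem g.2)]
      group)).trans (hprod ▸ h13)
    rcases pair_isolated y hy1 hy2 with rfl | rfl
    · exact congrArg f (Subtype.ext hy.symm)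
    · rw [show g * uC * g⁻¹ = uC * bC from Subtype.ext (hy.symm.trans (by rw [← hprod, map_mul]; rfl)), map_mul, hfb,
        mul_one]
  -- the stabilizer of the pair
  set X := Oc (el u) ⊓ centralizer ({el b} : Set G)
  have hgu := D.good_one (h := h) h14
  have hu' : el u * el b = el ⟨13, 0⟩ := by rw [← map_mul, hprod]
  have hv : el v ∈ C := mem_centralizer_singleton_iff.2 (by rw [← map_mul, ← map_mul, hv3])
  have hvX : el v ∈ normalizer (X : Set G) := mem_normalizer_of_conj_mem fun o ho => by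
    have hoC : el v * o * (el v)⁻¹ ∈ C := mul_mem (mul_mem hv ho.2) (inv_mem hv)
    refine ⟨?_, hoC⟩
    have h1 := conj_mem_Oc (g := el v) ho.1
    rw [← map_inv el v, ← map_mul, ← map_mul, hv14] at h1
    rw [← map_inv el v]
    refine D.inf_le_Oc rfl hu0 hgu ⟨h1, mem_centralizer_singleton_iff.2 ?_⟩
    have h2 := Oc_comm h1
    have h3 : el v * o * el v⁻¹ * el b = el b * (el v * o * el v⁻¹) := by
      rw [map_inv]; exact mem_centralizer_singleton_iff.1 hoC
    have e : el u = el ⟨13, 0⟩ * el b := by rw [← hu', mul_assoc, ← map_mul el b b, hb2, map_one, mul_one]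
    rw [e, ← mul_assoc, h2, mul_assoc, h3, ← mul_assoc]
  have hcu : ∀ c ∈ C, c * el u = el u * c → c ∈ normalizer (X : Set G) := fun c hc hcu =>
    inf_normalizer_le_normalizer_inf ⟨cent_le_normalizer_Oc _ (mem_centralizer_singleton_iff.2 hcu), le_normalizer hc⟩
  have hstab : ∀ g ∈ C, ∃ o ∈ Oc (el b), ∃ c ∈ C, ∃ k ∈ C, k * el u = el u * k ∧ c ∈ normalizer (X : Set G) ∧
      c ∈ normalizer (base.map el : Set G) ∧ g = o * (c * k) := by
    intro g hg
    obtain ⟨o, ho, c, hc, e⟩ := IsoApps.exists_mul hiso (f ⟨g, hg⟩)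
    obtain ⟨o, rfl⟩ := hf o
    obtain ⟨c, rfl⟩ := hf c
    obtain ⟨o', ho', c, hc, e⟩ : ∃ o' ∈ Cfsg.oddCore C, ∃ c : C, f c * f uC = f uC * f c ∧ (⟨g, hg⟩ : C) = o' * c := by
      rw [← map_mul] at e
      have hc' : f c * f uC = f uC * f c := mem_centralizer_singleton_iff.1 hc
      rcases hfeq _ _ e with e | e <;> rcases core_lift hbsq hbcen ho with h' | h'
      · exact ⟨o, h', c, hc', e⟩
      · exact ⟨o * bC, h', bC * c, by rw [map_mul, hfb, one_mul]; exact hc', by
          rw [e, mul_assoc, ← mul_assoc bC, hbsq, one_mul]⟩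
      · exact ⟨o, h', c * bC, by rw [map_mul, hfb, mul_one]; exact hc', by rw [e, mul_assoc]⟩
      · exact ⟨o * bC, h', c, hc', by rw [e, mul_assoc o bC, ← hbcen, mul_assoc]⟩
    have hcu' : (c : G) * el u * (c : G)⁻¹ = el u ∨ (c : G) * el u * (c : G)⁻¹ = el ⟨13, 0⟩ := by
      rcases hfeq (c * uC * c⁻¹) uC (by rw [map_mul, map_mul, map_inv, hc, mul_inv_cancel_right]) with e' | e'
      · exact Or.inl (congrArg Subtype.val e')
      · exact Or.inr ((congrArg Subtype.val e').trans hu')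
    have hg' : g = (o' : G) * c := congrArg Subtype.val e
    rcases hcu' with h1 | h1
    · exact ⟨o', mem_Oc_of ho', 1, one_mem _, c, c.2, mul_inv_eq_iff_eq_mul.1 h1, one_mem _, one_mem _, by
        rw [one_mul, hg']⟩
    · refine ⟨o', mem_Oc_of ho', (el v)⁻¹, inv_mem hv, el v * c, mul_mem hv c.2, ?_, inv_mem hvX,
        inv_mem (D.conj_el_base v), by rw [inv_mul_cancel_left, hg']⟩
      refine mul_inv_eq_iff_eq_mul.1 ?_
      rw [show el v * c * el u * (el v * c)⁻¹ = el v * ((c : G) * el u * (c : G)⁻¹) * (el v)⁻¹ by group, h1,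
        ← map_inv, ← map_mul, ← map_mul, hv13]
  have hX : X ≤ Oc (el b) := le_Oc_of_mod inf_le_right (Odd.of_dvd_nat (Oc_odd _) (card_dvd_of_le inf_le_left))
    fun g hg => by
      obtain ⟨o, ho, c, hc, k, hk, hku, hcX, -, e⟩ := hstab g hg
      exact ⟨o, ho, c * k, mul_mem hcX (hcu k hk hku), mem_centralizer_singleton_iff.1 (mul_mem hc hk), e⟩
  intro g hg
  obtain ⟨o, ho, c, hc, k, hk, hku, -, hcA, rfl⟩ := hstab g hg
  obtain ⟨o₂, ho₂, n, hn, rfl⟩ := hgu k (mem_centralizer_singleton_iff.2 hku)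
  have hbA : el b ∈ base.map el := mem_map_of_mem el hb0
  have hnb : n * el b * n⁻¹ * (el b)⁻¹ ∈ Oc (el u) := by
    have h1 : o₂⁻¹ * el b * o₂ * (el b)⁻¹ ∈ Oc (el u) := by
      rw [show o₂⁻¹ * el b * o₂ * (el b)⁻¹ = o₂⁻¹ * (el b * o₂ * (el b)⁻¹) by group]
      exact mul_mem (inv_mem ho₂) (conj_mem_of_normalizer (cent_le_normalizer_Oc _
        (mem_centralizer_singleton_iff.2 (comm_of_sq D.base_sq hbA (mem_map_of_mem el hu0)))) ho₂)
    have h2 : n * el b * n⁻¹ = o₂⁻¹ * el b * o₂ := by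
      calc n * el b * n⁻¹ = o₂⁻¹ * (o₂ * n * el b) * (o₂ * n)⁻¹ * o₂ := by group
        _ = o₂⁻¹ * (el b * (o₂ * n)) * (o₂ * n)⁻¹ * o₂ := by rw [mem_centralizer_singleton_iff.1 hk]
        _ = o₂⁻¹ * el b * o₂ := by group
    rwa [h2]
  have hnb' : n * el b = el b * n := mul_inv_eq_iff_eq_mul.1 (mul_inv_eq_one.1 (eq_one_of_sq_odd
    (D.base_sq _ (mul_mem (conj_mem_of_normalizer hn hbA) (inv_mem hbA))) (odd_orderOf_of_mem (Oc_odd _) hnb)))
  have ho₂b : o₂ ∈ X := ⟨ho₂, by
    have := mul_mem hk (inv_mem (mem_centralizer_singleton_iff.2 hnb' : n ∈ C))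
    rwa [mul_inv_cancel_right] at this⟩
  refine ⟨o * (c * o₂ * c⁻¹), mul_mem ho (conj_mem_of_normalizer (cent_le_normalizer_Oc _ hc) (hX ho₂b)), c * n,
    mul_mem hcA hn, by group⟩

theorem out_cent_le {x : T} (hx : ty x = 3) {M : Subgroup G}
    (hM : ∀ a : T, a.p = 0 → a ≠ 1 → centralizer ({el a} : Set G) ≤ M) : centralizer ({el x} : Set G) ≤ M := by
  set C := centralizer ({el x} : Set G)
  obtain ⟨P, hP⟩ := D.cent_sylow (x := x) (by rw [hx]; decide) (cn_three_le x hx)
  have hzC : el zz ∈ C := mem_centralizer_singleton_iff.2 (by rw [← map_mul, ← map_mul, zz_comm x])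
  have hiso : Cfsg.IsIsolatedInvolution (⟨el zz, hzC⟩ : C) := by
    refine Invol.isolated_of_sylow P (by rw [← orderOf_coe]; exact D.order_el (by decide)) fun g hg => ?_
    obtain ⟨w, hw, e⟩ := hP _ hg
    have hwt := (D.conj_ty (g := (g : G)) (x := zz) (by decide) e.symm).trans cn_zz
    obtain rfl := out_isolated x w hx hwt hw
    exact Subtype.ext e.symm
  set E : Subgroup T := base ⊓ centralizer ({x} : Set T)
  have hE : Nat.card (E.map el) = 4 := by
    rw [card_map_of_injective D.inj, ← out_four x hx, ← card_filter]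
    exact Nat.card_congr (Equiv.subtypeEquivRight fun w => by
      show w.p = 0 ∧ w ∈ centralizer ({x} : Set T) ↔ _
      rw [mem_centralizer_singleton_iff])
  have hEA : E.map el ≤ base.map el := map_mono inf_le_left
  have hEC : E.map el ≤ C := by
    rintro _ ⟨w, hw, rfl⟩
    exact mem_centralizer_singleton_iff.2 (by rw [← map_mul, ← map_mul, mem_centralizer_singleton_iff.1 hw.2])
  have hO : Oc (el x) ≤ M := Signalizer.le_of_forall_centralizer D.base_elab hEA (by rw [hE]; norm_num)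
    (hEC.trans (cent_le_normalizer_Oc _)) (Oc_odd _).not_two_dvd_nat fun e he he1 => by
      obtain ⟨a, ha, rfl⟩ := hEA he
      exact inf_le_right.trans (hM a ha fun e1 => he1 (by rw [e1, map_one]))
  intro g hg
  obtain ⟨o, ho, c, hc, e⟩ := IsoApps.exists_mul hiso ⟨g, hg⟩
  have e' : g = (o : G) * c := congrArg Subtype.val e
  rw [e']
  refine mul_mem (hO (mem_Oc_of ho)) (hM zz rfl (by decide) ?_)
  exact mem_centralizer_singleton_iff.2 (congrArg Subtype.val (mem_centralizer_singleton_iff.1 hc))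

theorem eq_top {M : Subgroup G} (hN : normalizer (base.map el : Set G) ≤ M)
    (hM : ∀ a : T, a.p = 0 → a ≠ 1 → centralizer ({el a} : Set G) ≤ M) : M = ⊤ := by
  refine top_of_cent S D.gen_invols (D.normS_le.trans hN) ?_ (D.mem_S zz) (D.order_el (by decide))
    (D.mem_S ⟨3, 0⟩) (D.order_el (by rw [pair_coords.1]; decide)) fun h =>
    absurd (D.fus zz ⟨3, 0⟩ (by decide) (by rw [pair_coords.1]; decide) h) (by rw [pair_coords.1, cn_zz]; decide)
  intro s hs hs2
  obtain ⟨y, rfl⟩ := D.exists_el hs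
  have hy1 : y ≠ 1 := fun e => Invol.ne_one hs2 (by rw [e, map_one])
  by_cases hp : y.p = 0
  · exact hM y hp hy1
  refine D.out_cent_le ?_ hM
  have hty0 : ty y ≠ 0 := fun h0 => ((ty_zero y h0).elim hy1 fun h =>
    h (D.inj (by rw [map_mul, map_one]; exact Invol.mul_self_eq_one hs2)))
  rcases (show ∀ t : Fin 4, t = 0 ∨ t = 1 ∨ t = 2 ∨ t = 3 by decide) (ty y) with h | h | h | h
  · exact absurd h hty0
  · exact absurd ((ty_base y).1 (Or.inl h)).1 hp
  · exact absurd ((ty_base y).1 (Or.inr h)).1 hp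
  · exact h

/-- The base is normal modulo the core. -/
theorem normal (h₁ : ∀ x : T, ty x = 1 → ∃ n ∈ normalizer (base.map el : Set G), n * el zz * n⁻¹ = el x)
    (h₂ : ∀ x : T, ty x = 2 → ∃ n ∈ normalizer (base.map el : Set G), n * el ⟨3, 0⟩ * n⁻¹ = el x) :
    (base.map el ⊔ Cfsg.oddCore G).Normal := by
  set A := base.map el
  have hgood : ∀ a : T, a.p = 0 → a ≠ 1 → Good A (el a) := by
    intro a ha ha1
    rcases (ty_base a).2 ⟨ha, ha1⟩ with ht | ht
    · exact D.good_one (h := h₁) ht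
    · obtain ⟨n, hn, e⟩ := h₂ a ht
      exact e ▸ (D.good_pair h₁).conj hn
  obtain ⟨W, hW, hWle, -, hWN, -⟩ := closure_props D.base_sq (by rw [D.card_base]; norm_num) (by
    rintro _ ⟨a, ha, rfl⟩ - _ ⟨b, hb, rfl⟩ hb1 g hg hgb
    exact D.inf_le_Oc ha hb (hgood b hb fun e => hb1 (by rw [e, map_one]))
      ⟨hg, mem_centralizer_singleton_iff.2 hgb⟩)
  have hne : ∀ a : T, a ≠ 1 → el a ≠ 1 := fun a ha e => ha (D.el_eq_one.1 e)
  have htop : normalizer (W : Set G) = ⊤ := D.eq_top hWN fun a ha ha1 =>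
    (hgood a ha ha1).le ((hWle _ (mem_map_of_mem el ha) (hne a ha1)).trans le_normalizer) hWN
  have hWO : W ≤ Cfsg.oddCore G := le_ocore (normalizer_eq_top_iff.1 htop) hW
  have htop2 : normalizer (A : Set G) ⊔ Cfsg.oddCore G = ⊤ := D.eq_top le_sup_left fun a ha ha1 =>
    (hgood a ha ha1).le (((hWle _ (mem_map_of_mem el ha) (hne a ha1)).trans hWO).trans le_sup_right) le_sup_left
  refine normalizer_eq_top_iff.1 (top_le_iff.1 ?_)
  rw [← htop2]
  refine sup_le (fun n hn => join_normalized hn (by rw [normalizer_eq_top_iff.2 ocore_normal]; exact mem_top n)) ?_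
  exact le_sup_right.trans le_normalizer

end Cfg

end CfsgLib.A8Three
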