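import Cfsg.Agent.A8Three.DataModel
import Cfsg.Agent.A8Three.Local

/-!
Coordinates from the hypotheses.
-/

set_option autoImplicit false
set_option linter.unusedSectionVars false
set_option linter.style.haveILetI false

namespace CfsgLib.A8Three

open Subgroup CfsgLib.SylL34

variable {G : Type*} [Group G] [Finite G]

/-- Properties of the coordinates before the fusion is known. -/
structure Pre (S : Sylow 2 G) (el : T →* G) (A : Subgroup G) : Prop where
  inj : Function.Injective el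
  range : el.range = (S : Subgroup G)
  base_eq : base.map el = A
  norm : (S : Subgroup G) ≤ normalizer (A : Set G)

/-- The orbit of a base vector under the normalizer. -/
def Orb (el : T →* G) (A : Subgroup G) (a₀ a : Fin 16) : Prop :=
  ∃ n ∈ normalizer (A : Set G), n * el ⟨a₀, 0⟩ * n⁻¹ = el ⟨a, 0⟩

theorem Orb.rfl' (el : T →* G) (A : Subgroup G) (a : Fin 16) : Orb el A a a := ⟨1, one_mem _, by simp⟩

theorem Orb.symm {el : T →* G} {A : Subgroup G} {a b : Fin 16} (h : Orb el A a b) : Orb el A b a := by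
  obtain ⟨n, hn, e⟩ := h
  exact ⟨n⁻¹, inv_mem hn, by rw [← e]; group⟩

theorem Orb.trans {el : T →* G} {A : Subgroup G} {a b c : Fin 16} (h : Orb el A a b) (h' : Orb el A b c) :
    Orb el A a c := by
  obtain ⟨n, hn, e⟩ := h
  obtain ⟨m, hm, e'⟩ := h'
  exact ⟨m * n, mul_mem hm hn, by rw [← e', ← e]; group⟩

namespace Pre

variable {S : Sylow 2 G} {el : T →* G} {A : Subgroup G} (D : Pre S el A)
include D

theorem mem_S (x : T) : el x ∈ (S : Subgroup G) := D.range ▸ ⟨x, rfl⟩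

theorem exists_el {g : G} (hg : g ∈ (S : Subgroup G)) : ∃ x, el x = g := by
  rwa [← D.range] at hg

theorem base_sq : ∀ g ∈ A, g * g = 1 := by
  intro g hg
  rw [← D.base_eq] at hg
  obtain ⟨x, hx, rfl⟩ := hg
  rw [← map_mul, A8Three.base_sq x hx, map_one]

theorem exists_base {g : G} (hg : g ∈ A) : ∃ a : Fin 16, el ⟨a, 0⟩ = g := by
  rw [← D.base_eq] at hg
  obtain ⟨⟨a, p⟩, hp, rfl⟩ := hg
  obtain rfl : p = 0 := hp
  exact ⟨a, rfl⟩

theorem mem_A (a : Fin 16) : el ⟨a, 0⟩ ∈ A := D.base_eq ▸ mem_map_of_mem el rfl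

theorem el_mem_A {x : T} (h : el x ∈ A) : x.p = 0 := by
  obtain ⟨a, ha⟩ := D.exists_base h
  rw [← D.inj ha]

theorem orb_sh (p : Fin 4) (a : Fin 16) : Orb el A a (sh p a) :=
  ⟨el ⟨0, p⟩, D.norm (D.mem_S _), by rw [← map_inv, ← map_mul, ← map_mul, conj_base]⟩

theorem normS_zz {n : G} (hn : n ∈ normalizer ((S : Subgroup G) : Set G)) : n * el zz * n⁻¹ = el zz := by
  obtain ⟨y, hy⟩ := D.exists_el (conj_mem_of_normalizer hn (D.mem_S zz))
  have hc : ∀ u, y * u = u * y := by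
    intro u
    refine D.inj ?_
    obtain ⟨v, hv⟩ := D.exists_el (conj_mem_of_normalizer (inv_mem hn) (D.mem_S u))
    have h1 : el zz * el v = el v * el zz := by rw [← map_mul, ← map_mul, zz_comm v]
    have h2 : el u = n * el v * n⁻¹ := by rw [hv]; group
    rw [map_mul, map_mul, hy, h2, show n * el zz * n⁻¹ * (n * el v * n⁻¹) = n * (el zz * el v) * n⁻¹ by group, h1]
    group
  rcases center_zz y hc with rfl | rfl
  · rw [map_one] at hy
    exact absurd (D.inj ((conj_eq_one_iff.1 hy.symm).trans (map_one el).symm)) (by decide)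
  · exact hy.symm

/-- Orbits avoiding zero have order divisible by five. -/
theorem card_orb {n₅ : G} (hn : n₅ ∈ normalizer (A : Set G)) (h5 : ∀ a ∈ A, n₅ ^ 5 * a = a * n₅ ^ 5)
    (hnt : ∃ a ∈ A, n₅ * a ≠ a * n₅) (a₀ : Fin 16) (h0 : a₀ ≠ 0) (sel : Fin 16 → Bool)
    (hsel : ∀ a, Orb el A a₀ a ↔ sel a = true) : (Finset.univ.filter fun a => sel a = true).card % 5 = 0 := by
  classical
  have : Fact (Nat.Prime 5) := ⟨by norm_num⟩
  choose π hπ using fun a => D.exists_base (conj_mem_of_normalizer hn (D.mem_A a))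
  have hit : ∀ (i : ℕ) (a : Fin 16), el ⟨π^[i] a, 0⟩ = n₅ ^ i * el ⟨a, 0⟩ * (n₅ ^ i)⁻¹ := by
    intro i
    induction i with
    | zero => intro a; simp
    | succ i ih =>
      intro a
      rw [Function.iterate_succ_apply', hπ, ih, pow_succ']
      group
  have hπ5 : ∀ a, π^[5] a = a := fun a => by
    have := hit 5 a
    rw [h5 _ (D.mem_A a), mul_inv_cancel_right] at this
    exact congrArg T.a (D.inj this)
  -- fixed vectors
  have hfix : ∀ a, π a = a → a = 0 := by
    set F : Subgroup T := base ⊓ (centralizer ({n₅} : Set G)).comap el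
    have hF : ∀ a : Fin 16, (⟨a, 0⟩ : T) ∈ F ↔ π a = a := fun a => by
      show (0 : Fin 4) = 0 ∧ el ⟨a, 0⟩ ∈ centralizer ({n₅} : Set G) ↔ _
      rw [mem_centralizer_singleton_iff]
      constructor
      · rintro ⟨-, h⟩
        have := hπ a
        rw [← h, mul_inv_cancel_right] at this
        exact congrArg T.a (D.inj this)
      · intro h
        have := hπ a
        rw [h] at this
        exact ⟨rfl, (mul_inv_eq_iff_eq_mul.1 this.symm).symm⟩
    have hmod : Nat.card (Fin 16) ≡ Nat.card {a : Fin 16 // π a = a} [MOD 5] := by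
      have := Equiv.Perm.card_fixedPoints_modEq (f := (π : Function.End (Fin 16))) (p := 5) (n := 1)
        (funext fun a => by rw [pow_one]; exact hπ5 a)
      rw [← Nat.card_eq_fintype_card, ← Nat.card_eq_fintype_card] at this
      exact this
    have hcF : Nat.card F = Nat.card {a : Fin 16 // π a = a} := Nat.card_congr
      { toFun := fun x => ⟨(x : T).a, (hF _).1 (by
          have e : (⟨(x : T).a, 0⟩ : T) = x := T.ext rfl (mem_base.1 x.2.1).symm
          rw [e]; exact x.2)⟩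
        invFun := fun a => ⟨⟨a, 0⟩, (hF a).2 a.2⟩
        left_inv := fun x => Subtype.ext (T.ext rfl (mem_base.1 x.2.1).symm)
        right_inv := fun a => rfl }
    have hb : Nat.card base = 16 := by
      rw [Nat.card_congr (Equiv.ofBijective (fun x : base => (x : T).a)
        ⟨fun x y h => Subtype.ext (T.ext h (x.2.trans y.2.symm)), fun a => ⟨⟨⟨a, 0⟩, rfl⟩, rfl⟩⟩)]
      simp
    have hd : Nat.card F ∣ 16 := hb ▸ card_dvd_of_le inf_le_left
    rw [← hcF, Nat.card_fin] at hmod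
    have h16 : Nat.card F ≤ 16 := Nat.le_of_dvd (by norm_num) hd
    intro a ha
    by_contra ha0
    have h2 : 2 ≤ Nat.card F := Finite.one_lt_card_iff_nontrivial.2
      ⟨⟨⟨_, (hF a).2 ha⟩, 1, fun e => ha0 (congrArg (fun x : F => (x : T).a) e)⟩⟩
    have hF16 : Nat.card F = 16 := by
      generalize Nat.card F = c at hd hmod h16 h2
      interval_cases c <;> simp_all [Nat.ModEq]
    obtain ⟨b, hb', hne⟩ := hnt
    obtain ⟨c, rfl⟩ := D.exists_base hb'
    have : (⟨c, 0⟩ : T) ∈ F := (eq_of_le_of_card_ge inf_le_left (by rw [hb, hF16]) : F = base).symm ▸ rfl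
    exact hne (mem_centralizer_singleton_iff.1 this.2).symm
  let f : Function.End {a : Fin 16 // sel a = true} := fun a =>
    ⟨π a, (hsel _).1 (((hsel _).2 a.2).trans ⟨n₅, hn, (hπ a).symm⟩)⟩
  have hval : ∀ (i : ℕ) (a : {a : Fin 16 // sel a = true}), ((f : _ → _)^[i] a : Fin 16) = π^[i] (a : Fin 16) := by
    intro i
    induction i with
    | zero => intro a; rfl
    | succ i ih => intro a; rw [Function.iterate_succ_apply', Function.iterate_succ_apply', ← ih a]
  have h := Equiv.Perm.card_fixedPoints_modEq (f := f) (p := 5) (n := 1)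
    (funext fun a => Subtype.ext (by rw [pow_one]; exact (hval 5 a).trans (hπ5 a)))
  have he : Fintype.card (Function.fixedPoints f) = 0 := by
    refine Fintype.card_eq_zero_iff.2 ⟨fun ⟨a, ha⟩ => ?_⟩
    have h1 := hfix a (congrArg Subtype.val ha)
    obtain ⟨n, -, e⟩ := (hsel _).2 a.2
    rw [h1, show (⟨0, 0⟩ : T) = 1 from rfl, map_one, conj_eq_one_iff] at e
    exact h0 (congrArg T.a (D.inj (e.trans (map_one el).symm)))
  rw [he] at h
  rw [← Fintype.card_subtype]
  exact h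

end Pre

/-- All data needed for the normality theorem. -/
def Ready (A : Subgroup G) : Prop :=
  ∃ (S : Sylow 2 G) (el : T →* G), Cfg S el ∧ base.map el = A ∧
    (∀ x : T, ty x = 1 → ∃ n ∈ normalizer (base.map el : Set G), n * el zz * n⁻¹ = el x) ∧
    (∀ x : T, ty x = 2 → ∃ n ∈ normalizer (base.map el : Set G), n * el ⟨3, 0⟩ * n⁻¹ = el x)

namespace Pre

variable {S : Sylow 2 G} {el : T →* G} {A : Subgroup G} (D : Pre S el A)
include D

/-- Conjugation by the rotation permutes the three cosets. -/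
theorem conn_pairs {n : G} (hn : n ∈ normalizer (A : Set G)) (hnS : n ∈ normalizer ((S : Subgroup G) : Set G))
    (hrot : ∀ p : Fin 4, p ≠ 0 → ∃ b q, q ≠ 0 ∧ q ≠ p ∧ n * el ⟨0, p⟩ * n⁻¹ = el ⟨b, q⟩) {p : Fin 4} (hp : p ≠ 0) :
    ∃ q, q ≠ 0 ∧ q ≠ p ∧ Orb el A (pe p) (pe q) := by
  obtain ⟨b, q, hq, hqp, e⟩ := hrot p hp
  refine ⟨q, hq, hqp, ?_⟩
  obtain ⟨d, hd⟩ := D.exists_base (conj_mem_of_normalizer hn (D.mem_A (pe p)))
  have h1 : sh q d = d := by
    refine comm_out b d q (D.inj ?_)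
    rw [map_mul, map_mul, hd, ← e]
    have hc : el ⟨pe p, 0⟩ * el ⟨0, p⟩ = el ⟨0, p⟩ * el ⟨pe p, 0⟩ := by
      rw [← map_mul, ← map_mul]
      exact congrArg el (pe_comm p)
    calc n * el ⟨pe p, 0⟩ * n⁻¹ * (n * el ⟨0, p⟩ * n⁻¹) = n * (el ⟨pe p, 0⟩ * el ⟨0, p⟩) * n⁻¹ := by group
      _ = n * (el ⟨0, p⟩ * el ⟨pe p, 0⟩) * n⁻¹ := by rw [hc]
      _ = _ := by group
  have h2 : d ≠ 0 := fun h => (pe_spec p hp).2.1 (by
    rw [h, show (⟨0, 0⟩ : T) = 1 from rfl, map_one, eq_comm, conj_eq_one_iff] at hd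
    exact congrArg T.a (D.inj (hd.trans (map_one el).symm)))
  have h3 : d ≠ 15 := fun h => (pe_spec p hp).2.2 (by
    rw [h, show (⟨15, 0⟩ : T) = zz from rfl] at hd
    exact congrArg T.a (D.inj (a₂ := zz) (mul_left_cancel (mul_right_cancel (hd.symm.trans (D.normS_zz hnS).symm)))))
  obtain ⟨r, hr⟩ := pe_cover q hq d h1 h2 h3
  have hd' : Orb el A (pe p) d := ⟨n, hn, hd.symm⟩
  rw [hr] at hd'
  exact hd'.trans (D.orb_sh r (pe q)).symm

/-- The orbit of a vector is a union of kinds. -/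
theorem orb_kinds {n : G} (hn : n ∈ normalizer (A : Set G)) (hnS : n ∈ normalizer ((S : Subgroup G) : Set G))
    (hrot : ∀ p : Fin 4, p ≠ 0 → ∃ b q, q ≠ 0 ∧ q ≠ p ∧ n * el ⟨0, p⟩ * n⁻¹ = el ⟨b, q⟩) {a₀ a : Fin 16}
    (h0 : a₀ ≠ 0) :
    Orb el A a₀ a ↔ if a = 15 then Orb el A a₀ 15 else if a = 0 then False else if ev a then Orb el A a₀ (pe 1)
      else if big a then Orb el A a₀ 7 else Orb el A a₀ 1 := by
  obtain ⟨c12, c23⟩ := conn (P := fun p => Orb el A a₀ (pe p)) fun p hp => by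
    obtain ⟨q, hq, hqp, h⟩ := D.conn_pairs hn hnS hrot hp
    exact ⟨q, hq, hqp, fun h' => h'.trans h, fun h' => h'.trans h.symm⟩
  by_cases ha : a = 0
  · subst ha
    rw [if_neg (by decide), if_pos rfl]
    refine iff_false_intro ?_
    rintro ⟨m, -, e⟩
    rw [show (⟨0, 0⟩ : T) = 1 from rfl, map_one, conj_eq_one_iff] at e
    exact h0 (congrArg T.a (D.inj (e.trans (map_one el).symm)))
  rcases kinds a ha with rfl | ⟨r, h⟩
  · rw [if_pos rfl]
  have key : ∀ b, Orb el A a₀ (sh r b) ↔ Orb el A a₀ b :=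
    fun b => ⟨fun h => h.trans (D.orb_sh r b).symm, fun h => h.trans (D.orb_sh r b)⟩
  obtain ⟨-, ⟨e1, b1, n1, m1⟩, ⟨e7, b7, n7, m7⟩, hp, -⟩ := sh_kinds r
  rcases h with rfl | rfl | rfl | rfl | rfl <;> rw [key]
  · rw [if_neg m1, if_neg n1, if_neg (by simp [e1]), if_neg (by simp [b1])]
  · obtain ⟨e, b, h₀, h₁⟩ := hp 1 (by decide)
    rw [if_neg h₁, if_neg h₀, if_pos e]
  · obtain ⟨e, b, h₀, h₁⟩ := hp 2 (by decide)
    rw [if_neg h₁, if_neg h₀, if_pos e]
    exact c12.symm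
  · obtain ⟨e, b, h₀, h₁⟩ := hp 3 (by decide)
    rw [if_neg h₁, if_neg h₀, if_pos e]
    exact (c12.trans c23).symm
  · rw [if_neg m7, if_neg n7, if_neg (by simp [e7]), if_pos b7]

/-- The coordinates with the orbit of the centre on weights three and four. -/
theorem ready_of_big {n : G} (hn : n ∈ normalizer (A : Set G)) (hnS : n ∈ normalizer ((S : Subgroup G) : Set G))
    (hrot : ∀ p : Fin 4, p ≠ 0 → ∃ b q, q ≠ 0 ∧ q ≠ p ∧ n * el ⟨0, p⟩ * n⁻¹ = el ⟨b, q⟩)
    {n₅ : G} (hn5 : n₅ ∈ normalizer (A : Set G)) (h5 : ∀ a ∈ A, n₅ ^ 5 * a = a * n₅ ^ 5)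
    (hnt : ∃ a ∈ A, n₅ * a ≠ a * n₅)
    (h3 : Nat.card {c : ConjClasses G // ∃ x ∈ c.carrier, orderOf x = 2} = 3)
    (h15 : Orb el A 15 7) (hn2 : ¬ Orb el A 15 (pe 1)) : Ready A := by
  classical
  have : Fact (Nat.Prime 2) := ⟨Nat.prime_two⟩
  have h37 : ¬ Orb el A (pe 1) 7 := fun h => hn2 (h15.trans h.symm)
  have h315 : ¬ Orb el A (pe 1) 15 := fun h => hn2 h.symm
  have h31 : Orb el A (pe 1) 1 := by
    have hs : ∀ a, Orb el A (pe 1) a ↔ sel' (decide (Orb el A (pe 1) 1)) true false a = true := fun a => by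
      rw [D.orb_kinds hn hnS hrot (by decide), sel']
      simp only [h315, h37, Orb.rfl' el A (pe 1)]
      split_ifs <;> simp_all
    exact of_decide_eq_true (sel_count' _ true false
      (D.card_orb hn5 h5 hnt (pe 1) (by decide) _ hs) rfl rfl)
  have hT1 : ∀ a : Fin 16, ty ⟨a, 0⟩ = 1 → Orb el A 15 a := fun a ha => by
    obtain ⟨h0, hb⟩ := (base_kinds a).1.1 ha
    rw [D.orb_kinds hn hnS hrot (by decide)]
    by_cases h : a = 15
    · simp [h, Orb.rfl']
    · rw [if_neg h, if_neg h0]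
      have he : ∀ a : Fin 16, a ≠ 15 → big a = true → ev a = false := by decide +kernel
      simp [he a h hb, hb, h15]
  have hT2 : ∀ a : Fin 16, ty ⟨a, 0⟩ = 2 → Orb el A (pe 1) a := fun a ha => by
    obtain ⟨h0, hb⟩ := (base_kinds a).2.1 ha
    rw [D.orb_kinds hn hnS hrot (by decide)]
    have h : a ≠ 15 := fun h => by rw [h] at hb; exact absurd hb (by decide +kernel)
    rw [if_neg h, if_neg h0]
    by_cases he : ev a = true <;> simp [he, hb, h31, Orb.rfl']
  -- the outside involutions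
  have hout : ∀ x : T, ty x = 3 → IsConj (el ⟨0, 1⟩) (el x) := by
    have step : ∀ y : T, ty y = 3 → IsConj (el ⟨0, y.p⟩) (el y) := fun y hy => by
      obtain ⟨c, hc⟩ := out_conj y hy
      exact isConj_iff.2 ⟨el ⟨c, 0⟩, by rw [← map_inv, ← map_mul, ← map_mul, hc]⟩
    obtain ⟨h12, h23⟩ := conn (P := fun p => IsConj (el ⟨0, 1⟩) (el ⟨0, p⟩)) fun p hp => by
      obtain ⟨b, q, hq, hqp, e⟩ := hrot p hp
      refine ⟨q, hq, hqp, ?_⟩
      have hsq : (⟨b, q⟩ : T) * ⟨b, q⟩ = 1 := D.inj (by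
        rw [map_mul, map_one, ← e]
        exact conj_sq n _ (by rw [← map_mul, tau_sq, map_one]))
      have hpq : IsConj (el ⟨0, p⟩) (el ⟨0, q⟩) :=
        (isConj_iff.2 ⟨n, e⟩).trans (step ⟨b, q⟩ (out_sq _ hq hsq)).symm
      exact ⟨fun h => h.trans hpq, fun h => h.trans hpq.symm⟩
    intro x hx
    refine IsConj.trans ?_ (step x hx)
    have hp := (ty_out x hx).1
    rcases (show ∀ p : Fin 4, p = 0 ∨ p = 1 ∨ p = 2 ∨ p = 3 by decide) x.p with e | e | e | e <;> rw [e]
    · exact absurd e hp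
    · exact h12.1 (IsConj.refl _)
    · exact h23.1 (h12.1 (IsConj.refl _))
  let rep : Fin 4 → T := ![⟨0, 1⟩, zz, ⟨3, 0⟩, ⟨0, 1⟩]
  have hrep : ∀ x : T, ty x ≠ 0 → IsConj (el (rep (ty x))) (el x) := by
    intro x hx
    rcases (show ∀ t : Fin 4, t = 0 ∨ t = 1 ∨ t = 2 ∨ t = 3 by decide) (ty x) with e | e | e | e
    · exact absurd e hx
    all_goals rw [e]
    · obtain ⟨a, p⟩ := x
      obtain rfl : p = 0 := ((ty_base _).1 (Or.inl e)).1
      obtain ⟨m, -, hm⟩ := hT1 a e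
      exact isConj_iff.2 ⟨m, hm⟩
    · obtain ⟨a, p⟩ := x
      obtain rfl : p = 0 := ((ty_base _).1 (Or.inr e)).1
      obtain ⟨m, -, hm⟩ := hT2 a e
      exact isConj_iff.2 ⟨m, hm⟩
    · exact hout x e
  have hro : ∀ i : Fin 3, ty (rep i.succ) ≠ 0 := by decide +kernel
  have hinv : ∀ x : T, ty x ≠ 0 → orderOf (el x) = 2 := fun x hx =>
    order_two (by rw [← map_mul, (ty_sq x hx).2, map_one]) fun h => (ty_sq x hx).1 (D.inj (h.trans (map_one el).symm))
  let cls : Fin 3 → {c : ConjClasses G // ∃ x ∈ c.carrier, orderOf x = 2} := fun i =>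
    ⟨ConjClasses.mk (el (rep i.succ)), el (rep i.succ), ConjClasses.mem_carrier_mk, hinv _ (hro i)⟩
  have hsurj : Function.Surjective cls := by
    rintro ⟨c, x, hx, hx2⟩
    obtain ⟨g, hg⟩ := exists_conj_mem S (Invol.mul_self_eq_one hx2)
    obtain ⟨y, hy⟩ := D.exists_el hg
    have hy0 : ty y ≠ 0 := fun h0 => by
      rcases ty_zero y h0 with rfl | h
      · rw [map_one, eq_comm, conj_eq_one_iff] at hy
        exact Invol.ne_one hx2 hy
      · exact h (D.inj (by rw [map_mul, map_one, hy]; exact conj_sq g x (Invol.mul_self_eq_one hx2)))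
    obtain ⟨i, hi⟩ := Fin.exists_succ_eq.2 hy0
    refine ⟨i, Subtype.ext ?_⟩
    show ConjClasses.mk (el (rep i.succ)) = c
    rw [← ConjClasses.mem_carrier_iff_mk_eq.1 hx, hi, ConjClasses.mk_eq_mk_iff_isConj]
    exact (hrep y hy0).trans (isConj_iff.2 ⟨g⁻¹, by rw [hy]; group⟩)
  have hinj : Function.Injective cls := (Function.Surjective.bijective_of_nat_card_le hsurj (by rw [h3, Nat.card_fin])).1
  have hfus : ∀ x y : T, ty x ≠ 0 → ty y ≠ 0 → IsConj (el x) (el y) → ty x = ty y := by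
    intro x y hx hy h
    obtain ⟨i, hi⟩ := Fin.exists_succ_eq.2 hx
    obtain ⟨j, hj⟩ := Fin.exists_succ_eq.2 hy
    have : i = j := hinj (Subtype.ext (by
      show ConjClasses.mk (el (rep i.succ)) = ConjClasses.mk (el (rep j.succ))
      rw [hi, hj, ConjClasses.mk_eq_mk_iff_isConj]
      exact ((hrep x hx).trans h).trans (hrep y hy).symm))
    rw [← hi, ← hj, this]
  refine ⟨S, el, ⟨D.inj, D.range, hfus, n, hnS, hrot⟩, D.base_eq, fun x hx => ?_, fun x hx => ?_⟩
  · obtain ⟨a, p⟩ := x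
    obtain rfl : p = 0 := ((ty_base _).1 (Or.inl hx)).1
    rw [D.base_eq]
    exact hT1 a hx
  · obtain ⟨a, p⟩ := x
    obtain rfl : p = 0 := ((ty_base _).1 (Or.inr hx)).1
    rw [D.base_eq]
    exact hT2 a hx

/-- Change of coordinates. -/
theorem flipped : Pre S (el.comp flipW.toMonoidHom) A := by
  refine ⟨D.inj.comp flipW.injective, ?_, ?_, D.norm⟩
  · rw [MonoidHom.range_comp, MonoidHom.range_eq_top.2 flipW.surjective, ← MonoidHom.range_eq_map, D.range]
  · rw [← D.base_eq, ← map_map]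
    congr 1
    ext x
    refine ⟨?_, fun hx => ⟨flipW.symm x, ?_, by simp⟩⟩
    · rintro ⟨y, hy, rfl⟩
      exact (flip_base y).trans hy
    · exact ((flip_base _).symm.trans (by rw [MulEquiv.apply_symm_apply]; exact hx))

end Pre

end CfsgLib.A8Three
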