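import Mathlib

/-!
A model of a Sylow 2-subgroup of `Alt(8)`: the regular module of a four group, extended by it.
-/

set_option autoImplicit false
set_option linter.style.longLine false
set_option maxRecDepth 100000

namespace CfsgLib.A8Three

/-- Permutation of the coordinates `0..3` of a bit vector by translation with `p`. -/
def sh (p : Fin 4) (a : Fin 16) : Fin 16 :=
  let b : ℕ := if p.val % 2 = 1 then ((a.val &&& 5) <<< 1) + ((a.val &&& 10) >>> 1) else a.val
  let c : ℕ := if p.val / 2 = 1 then ((b &&& 3) <<< 2) + ((b &&& 12) >>> 2) else b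
  ⟨c % 16, Nat.mod_lt _ (by norm_num)⟩

/-- The model. -/
@[ext] structure T where
  a : Fin 16
  p : Fin 4
deriving DecidableEq

/-- The coordinates. -/
def coord : T ≃ Fin 16 × Fin 4 where
  toFun x := (x.a, x.p)
  invFun q := ⟨q.1, q.2⟩

instance : Fintype T := Fintype.ofEquiv _ coord.symm

instance (priority := high) decForall {P : T → Prop} [∀ x, Decidable (P x)] : Decidable (∀ x, P x) :=
  decidable_of_iff (∀ p a, P ⟨a, p⟩) ⟨fun h x => h x.p x.a, fun h p a => h ⟨a, p⟩⟩

/-- The list of all elements. -/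
def elems : List T := (List.finRange 4).flatMap fun p => (List.finRange 16).map fun a => ⟨a, p⟩

theorem mem_elems : ∀ x : T, x ∈ elems := fun x => List.mem_flatMap.2
  ⟨x.p, List.mem_finRange _, List.mem_map.2 ⟨x.a, List.mem_finRange _, rfl⟩⟩

theorem nodup_elems : elems.Nodup := by decide +kernel

theorem card_filter (P : T → Prop) [DecidablePred P] : Nat.card {x : T // P x} = elems.countP (fun x => decide (P x)) := by
  rw [List.countP_eq_length_filter, ← List.toFinset_card_of_nodup (nodup_elems.filter _), Nat.card_eq_fintype_card,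
    Fintype.card_subtype]
  congr 1
  ext x
  simp [mem_elems]

theorem sh_xor : ∀ p a b, sh p (a ^^^ b) = sh p a ^^^ sh p b := by decide +kernel

theorem sh_sh : ∀ p q a, sh p (sh q a) = sh (p ^^^ q) a := by decide +kernel

theorem xor16_assoc : ∀ a b c : Fin 16, a ^^^ b ^^^ c = a ^^^ (b ^^^ c) := by decide +kernel

theorem xor4_assoc : ∀ a b c : Fin 4, a ^^^ b ^^^ c = a ^^^ (b ^^^ c) := by decide +kernel

instance : Group T where
  mul x y := ⟨x.a ^^^ sh x.p y.a, x.p ^^^ y.p⟩
  one := ⟨0, 0⟩
  inv x := ⟨sh x.p x.a, x.p⟩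
  mul_assoc x y z := by
    refine T.ext ?_ (xor4_assoc _ _ _)
    show x.a ^^^ sh x.p y.a ^^^ sh (x.p ^^^ y.p) z.a = x.a ^^^ sh x.p (y.a ^^^ sh y.p z.a)
    rw [sh_xor, sh_sh, xor16_assoc]
  one_mul := by decide +kernel
  mul_one := by decide +kernel
  inv_mul_cancel := by decide +kernel

theorem card_T : Nat.card T = 64 := by rw [Nat.card_congr coord]; simp

/-- The bit vectors of the elements of weight three and four. -/
def big (a : Fin 16) : Bool := Nat.testBit 0xE880 a.val

/-- The parity of the weight. -/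
def ev (a : Fin 16) : Bool := Nat.testBit 0x9669 a.val

/-- The kinds: `0` no involution, `1` and `2` in the base, `3` outside. -/
def ty (x : T) : Fin 4 := if x.p = 0 then (if x.a = 0 then 0 else if big x.a then 1 else 2) else if x * x = 1 then 3 else 0

/-- The base. -/
def base : Subgroup T where
  carrier := {x | x.p = 0}
  one_mem' := rfl
  mul_mem' {x y} hx hy := by show x.p ^^^ y.p = 0; rw [show x.p = 0 from hx, show y.p = 0 from hy]; rfl
  inv_mem' {_} hx := hx

instance : DecidablePred (· ∈ base) := fun x => inferInstanceAs (Decidable (x.p = 0))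

theorem mem_base {x : T} : x ∈ base ↔ x.p = 0 := Iff.rfl

/-- The subgroup of even weight. -/
def evens : Subgroup T where
  carrier := {x | ev x.a = true}
  one_mem' := rfl
  mul_mem' {x y} hx hy := by
    have h : ∀ x y : T, ev x.a = true → ev y.a = true → ev (x * y).a = true := by decide +kernel
    exact h x y hx hy
  inv_mem' {x} hx := by
    have h : ∀ x : T, ev x.a = true → ev (x⁻¹).a = true := by decide +kernel
    exact h x hx

instance : DecidablePred (· ∈ evens) := fun x => inferInstanceAs (Decidable (ev x.a = true))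

theorem mem_evens {x : T} : x ∈ evens ↔ ev x.a = true := Iff.rfl

/-- The central involution. -/
def zz : T := ⟨15, 0⟩

theorem ty_zero : ∀ x : T, ty x = 0 → x = 1 ∨ x * x ≠ 1 := by decide +kernel
theorem ty_sq : ∀ x : T, ty x ≠ 0 → x ≠ 1 ∧ x * x = 1 := by decide +kernel
theorem ty_base : ∀ x : T, (ty x = 1 ∨ ty x = 2 ↔ x.p = 0 ∧ x ≠ 1) := by decide +kernel
theorem ty_out : ∀ x : T, ty x = 3 → x.p ≠ 0 ∧ ev x.a = true ∧ x * zz = zz * x := by decide +kernel
theorem base_sq : ∀ x : T, x.p = 0 → x * x = 1 := by decide +kernel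
theorem base_self : ∀ x : T, (∀ y : T, y.p = 0 → x * y = y * x) → x.p = 0 := by decide +kernel
theorem out_few : ∀ x : T, ty x = 3 → elems.countP (fun w : T => decide (w * w = 1 ∧ w * x = x * w)) < 16 := by
  decide +kernel
theorem center_zz : ∀ x : T, (∀ y : T, x * y = y * x) → x = 1 ∨ x = zz := by decide +kernel
theorem zz_comm : ∀ x : T, x * zz = zz * x := by decide +kernel
theorem split : ∀ x : T, x = ⟨x.a, 0⟩ * ⟨0, x.p⟩ := by decide +kernel
theorem tau_sq : ∀ p : Fin 4, (⟨0, p⟩ : T) * ⟨0, p⟩ = 1 := by decide +kernel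
theorem conj_base : ∀ p a, (⟨0, p⟩ : T) * ⟨a, 0⟩ * (⟨0, p⟩ : T)⁻¹ = ⟨sh p a, 0⟩ := by decide +kernel
theorem out_conj : ∀ x : T, ty x = 3 → ∃ c : Fin 16, (⟨c, 0⟩ : T) * ⟨0, x.p⟩ * (⟨c, 0⟩ : T)⁻¹ = x := by
  decide +kernel

/-- The order of a centralizer. -/
def cn (x : T) : ℕ := elems.countP fun y : T => decide (y * x = x * y)

theorem cn_two : ∀ x : T, ty x = 2 → cn x ≤ 32 := by decide +kernel
theorem cn_three : ∀ x : T, ty x = 3 → cn x = 16 := by decide +kernel

theorem cn_pair : cn ⟨3, 0⟩ = 32 := by decide +kernel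

theorem cn_eq (x : T) : Nat.card (Subgroup.centralizer ({x} : Set T)) = cn x := by
  rw [cn, ← card_filter]
  exact Nat.card_congr (Equiv.subtypeEquivRight fun y => Subgroup.mem_centralizer_singleton_iff)

/-- Change of coordinates exchanging weights one and three. -/
def flipW : T ≃* T where
  toFun x := ⟨if ev x.a then x.a else x.a ^^^ 15, x.p⟩
  invFun x := ⟨if ev x.a then x.a else x.a ^^^ 15, x.p⟩
  left_inv := by decide +kernel
  right_inv := by decide +kernel
  map_mul' := by decide +kernel

/-- The action on eight points. -/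
def pt (x : T) (i : Fin 8) : Fin 8 :=
  let j : Fin 8 := ![![0, 1, 2, 3, 4, 5, 6, 7], ![1, 0, 2, 3, 5, 4, 6, 7], ![4, 5, 6, 7, 0, 1, 2, 3],
    ![5, 4, 6, 7, 1, 0, 2, 3]] x.p i
  if j.val < 4 then
    j ^^^ (if x.a.val.testBit 0 then 2 else 0) ^^^ (if x.a.val.testBit 1 then 3 else 0)
  else j ^^^ (if x.a.val.testBit 2 then 2 else 0) ^^^ (if x.a.val.testBit 3 then 3 else 0)

theorem pt_mul : ∀ x y i, pt (x * y) i = pt x (pt y i) := by decide +kernel
theorem pt_one : ∀ i, pt 1 i = i := by decide +kernel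
theorem pt_faithful : ∀ x : T, (∀ i, pt x i = i) → x = 1 := by decide +kernel

/-- The permutation of an element. -/
def perm (x : T) : Equiv.Perm (Fin 8) where
  toFun := pt x
  invFun := pt x⁻¹
  left_inv i := by rw [← pt_mul, inv_mul_cancel, pt_one]
  right_inv i := by rw [← pt_mul, mul_inv_cancel, pt_one]

/-- The homomorphism to the symmetric group. -/
def permHom : T →* Equiv.Perm (Fin 8) where
  toFun := perm
  map_one' := Equiv.ext pt_one
  map_mul' x y := Equiv.ext (pt_mul x y)

theorem permHom_even : ∀ x, Equiv.Perm.sign (permHom x) = 1 := by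
  have h : ∀ a : Fin 16, ∀ p : Fin 4, Equiv.Perm.sign (permHom ⟨a, 0⟩) = 1 ∧ Equiv.Perm.sign (permHom ⟨0, p⟩) = 1 := by
    decide +kernel
  intro x
  rw [split x, map_mul, map_mul, (h _ 0).1, (h 0 _).2, one_mul]

/-- The embedding in `Alt(8)`. -/
def altHom : T →* alternatingGroup (Fin 8) :=
  permHom.codRestrict _ fun x => Equiv.Perm.mem_alternatingGroup.2 (permHom_even x)

theorem altHom_injective : Function.Injective altHom := by
  refine (injective_iff_map_eq_one _).2 fun x hx => pt_faithful x fun i => ?_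
  exact congrArg (fun g : alternatingGroup (Fin 8) => (g : Equiv.Perm (Fin 8)) i) hx

theorem nonempty_sylow (P : Sylow 2 (alternatingGroup (Fin 8))) :
    Nonempty (T ≃* (P : Subgroup (alternatingGroup (Fin 8)))) := by
  have : Fact (Nat.Prime 2) := ⟨Nat.prime_two⟩
  set R := altHom.range
  have hc : Nat.card R = 64 := by
    rw [← Nat.card_congr (MonoidHom.ofInjective altHom_injective).toEquiv, card_T]
  have hA : Nat.card (alternatingGroup (Fin 8)) = 20160 := by
    rw [nat_card_alternatingGroup, Nat.card_fin]; decide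
  obtain ⟨Q, hQ⟩ := (IsPGroup.of_card (n := 6) hc : IsPGroup 2 R).exists_le_sylow
  have hQc : Nat.card (Q : Subgroup (alternatingGroup (Fin 8))) = 64 := by
    obtain ⟨k, hk⟩ := Q.2.exists_card_eq
    have h1 : 64 ≤ 2 ^ k := hc ▸ hk ▸ Subgroup.card_le_of_le hQ
    have h2 : 2 ^ k ∣ 20160 := hk ▸ hA ▸ (Q : Subgroup (alternatingGroup (Fin 8))).card_subgroup_dvd_card
    have h3 : k ≤ 6 := by
      by_contra h
      have := (pow_dvd_pow 2 (show 7 ≤ k by omega)).trans h2
      norm_num at this
    have h4 : 6 ≤ k := (Nat.pow_le_pow_iff_right (by norm_num : 1 < 2)).1 (le_trans (by norm_num) h1)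
    rw [hk, show k = 6 by omega]
    norm_num
  have hRQ : R = Q := Subgroup.eq_of_le_of_card_ge hQ (by rw [hc, hQc])
  exact ⟨((MonoidHom.ofInjective altHom_injective).trans (MulEquiv.subgroupCongr hRQ)).trans (Q.equiv P)⟩

end CfsgLib.A8Three
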