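import Cfsg.Agent.SylL34.Central

/-!
Normal 2-complements, lifting of cores, and fixed-point-free automizers of elementary Sylow subgroups.
-/

set_option autoImplicit false
set_option linter.unusedSectionVars false
set_option linter.style.haveILetI false

namespace CfsgLib.A8Three

open Subgroup CfsgLib.SylL34

variable {G : Type*} [Group G] [Finite G]

/-- A 2-subgroup of largest order in `X` is a Sylow subgroup of it. -/
theorem exists_sylow_eq {P X : Subgroup G} (hPX : P ≤ X) (hP : IsPGroup 2 P)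
    (hmax : ∀ R : Subgroup G, IsPGroup 2 R → P ≤ R → R ≤ X → R ≤ P) :
    ∃ Q : Sylow 2 X, (Q : Subgroup X) = P.subgroupOf X := by
  obtain ⟨Q, hQ⟩ := (hP.comap_subtype (K := X)).exists_le_sylow
  refine ⟨Q, le_antisymm (fun x hx => ?_) hQ⟩
  exact hmax _ (Q.2.map X.subtype) (fun y hy => ⟨⟨y, hPX hy⟩, hQ hy, rfl⟩) (map_subtype_le _)
    (mem_map_of_mem _ hx)

/-- A subgroup with an abelian Sylow 2-subgroup centralised by its normalizer has a normal 2-complement. -/
theorem twoNil_sub {P X : Subgroup G} (hPX : P ≤ X) (hP : IsPGroup 2 P)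
    (hmax : ∀ R : Subgroup G, IsPGroup 2 R → P ≤ R → R ≤ X → R ≤ P)
    (hc : ∀ n ∈ X, n ∈ normalizer (P : Set G) → ∀ p ∈ P, n * p = p * n) :
    (∀ g ∈ X, ∃ o ∈ LocalBalance.core 2 X, ∃ p ∈ P, g = o * p) ∧
      ∀ g ∈ X, Odd (orderOf g) → g ∈ LocalBalance.core 2 X := by
  obtain ⟨Q, hQ⟩ := exists_sylow_eq hPX hP hmax
  have h : normalizer ((Q : Subgroup X) : Set X) ≤ centralizer ((Q : Subgroup X) : Set X) := by
    intro n hn
    rw [hQ] at hn ⊢
    refine mem_centralizer_iff.2 fun p hp => Subtype.ext (hc n n.2 (mem_normalizer_of_conj_mem ?_) p hp).symm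
    intro x hx
    exact (mem_normalizer_iff.1 hn ⟨x, hPX hx⟩).1 hx
  obtain ⟨h1, h2⟩ := twoNil Q h
  refine ⟨fun g hg => ?_, fun g hg ho => ⟨⟨g, hg⟩, h2 _ (by rw [← orderOf_coe]; exact ho), rfl⟩⟩
  obtain ⟨o, ho, p, hp, e⟩ := h1 ⟨g, hg⟩
  rw [hQ] at hp
  exact ⟨o, ⟨o, ho, rfl⟩, p, hp, congrArg Subtype.val e⟩

theorem core_odd (X : Subgroup G) : Odd (Nat.card (LocalBalance.core 2 X)) :=
  Nat.coprime_two_right.1 (LocalBalance.coprime_core X)

/-- The core of a normal subgroup lies in the core. -/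
theorem core_le_ocore {X : Subgroup G} (hX : X.Normal) : LocalBalance.core 2 X ≤ Cfsg.oddCore G := by
  refine le_ocore (normalizer_eq_top_iff.1 (top_le_iff.1 ?_)) (core_odd X)
  rw [← normalizer_eq_top_iff.2 hX]
  exact LocalBalance.normalizer_le_normalizer_core X

/-- The preimage of the core of a quotient by a central involution. -/
theorem core_lift {c : G} (hc : c * c = 1) (hcc : ∀ g : G, g * c = c * g) [(zpowers c).Normal] {x : G}
    (hx : (x : G ⧸ zpowers c) ∈ Cfsg.oddCore (G ⧸ zpowers c)) :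
    x ∈ Cfsg.oddCore G ∨ x * c ∈ Cfsg.oddCore G := by
  set f := QuotientGroup.mk' (zpowers c)
  set X := (Cfsg.oddCore (G ⧸ zpowers c)).comap f
  have hXn : X.Normal := ocore_normal.comap f
  have hcX : zpowers c ≤ X := zpowers_le.2 (by
    show f c ∈ Cfsg.oddCore (G ⧸ zpowers c)
    rw [show f c = 1 from (QuotientGroup.eq_one_iff c).2 (mem_zpowers c)]
    exact one_mem _)
  obtain ⟨h1, -⟩ := twoNil_sub hcX (isPGroup_zpowers_of (g := c) (k := 1) (by rwa [pow_one, sq]))
    (fun R hR _ hRX r hr => by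
      obtain ⟨k, hk⟩ := hR ⟨r, hr⟩
      refine (QuotientGroup.eq_one_iff r).1 (eq_one_odd_two (k := k)
        (odd_orderOf_of_mem ocore_odd (mem_comap.1 (hRX hr))) ?_)
      have := congrArg f (congrArg Subtype.val hk)
      simpa [f] using this)
    (fun n _ _ p hp => by
      obtain ⟨i, rfl⟩ := mem_zpowers_iff.1 hp
      exact ((show Commute n c from hcc n).zpow_right i).eq)
  obtain ⟨o, ho, p, hp, rfl⟩ := h1 x hx
  obtain ⟨i, rfl⟩ := mem_zpowers_iff.1 hp
  rcases Int.even_or_odd i with ⟨j, rfl⟩ | ⟨j, rfl⟩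
  · refine Or.inl ?_
    rw [zpow_add, ← (Commute.refl c).mul_zpow, hc, one_zpow, mul_one]
    exact core_le_ocore hXn ho
  · refine Or.inr ?_
    rw [zpow_add, two_mul, zpow_add, ← (Commute.refl c).mul_zpow, hc, one_zpow, one_mul, zpow_one, mul_assoc,
      hc, mul_one]
    exact core_le_ocore hXn ho

/-- An odd subgroup whose normalizer covers modulo the core lies in it. -/
theorem le_ocore_of_mod {D : Subgroup G} (hD : Odd (Nat.card D))
    (h : ∀ g : G, ∃ o ∈ Cfsg.oddCore G, ∃ n ∈ normalizer (D : Set G), g = o * n) : D ≤ Cfsg.oddCore G := by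
  have hDO : D ≤ normalizer (Cfsg.oddCore G : Set G) := by
    rw [normalizer_eq_top_iff.2 ocore_normal]
    exact le_top
  refine le_trans le_sup_right (le_ocore (N := Cfsg.oddCore G ⊔ D) ?_ ?_)
  · refine normalizer_eq_top_iff.1 (top_le_iff.1 fun g _ => ?_)
    obtain ⟨o, ho, n, hn, rfl⟩ := h g
    exact mul_mem (le_normalizer (mem_sup_left ho)) (join_normalized (by rw [normalizer_eq_top_iff.2 ocore_normal]; exact mem_top n) hn)
  · rw [sup_comm]
    exact Odd.of_dvd_nat (hD.mul ocore_odd) (Solvable.card_sup_dvd hDO)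

/-- Elementary Sylow subgroups with fixed-point-free automizers and two classes of involutions. -/
theorem free_sylow (R : Sylow 2 G) (hsq : ∀ r ∈ (R : Subgroup G), r * r = 1)
    (h8 : 8 ≤ Nat.card (R : Subgroup G))
    (hfree : ∀ r ∈ (R : Subgroup G), r ≠ 1 → ∀ n ∈ normalizer ((R : Subgroup G) : Set G), n * r = r * n →
      ∀ p ∈ (R : Subgroup G), n * p = p * n)
    {x y : G} (hx : x ∈ (R : Subgroup G)) (hx1 : x ≠ 1) (hy : y ∈ (R : Subgroup G)) (hy1 : y ≠ 1)
    (hxy : ¬ IsConj x y) :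
    ∀ g : G, ∃ o ∈ Cfsg.oddCore G, ∃ n ∈ normalizer ((R : Subgroup G) : Set G), g = o * n := by
  have : Fact (Nat.Prime 2) := ⟨Nat.prime_two⟩
  have hcomm : ∀ a ∈ (R : Subgroup G), ∀ b ∈ (R : Subgroup G), a * b = b * a := fun a ha b hb =>
    comm_of_sq hsq ha hb
  have hC : ∀ r ∈ (R : Subgroup G), r ≠ 1 →
      (∀ g ∈ centralizer ({r} : Set G), ∃ o ∈ Oc r, ∃ p ∈ (R : Subgroup G), g = o * p) ∧
        ∀ g ∈ centralizer ({r} : Set G), Odd (orderOf g) → g ∈ Oc r := fun r hr hr1 =>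
    twoNil_sub (fun p hp => mem_centralizer_singleton_iff.2 (hcomm p hp r hr)) R.2
      (fun P hP hRP _ => (R.3 hP hRP).le)
      (fun n hn hnR => hfree r hr hr1 n hnR (mem_centralizer_singleton_iff.1 hn))
  obtain ⟨W, hW, hWle, -, hWN, -⟩ := closure_props hsq h8 (fun a ha _ b hb hb1 g hg hgb =>
    (hC b hb hb1).2 g (mem_centralizer_singleton_iff.2 hgb) (odd_orderOf_of_mem (Oc_odd a) hg))
  have hgen : (R : Subgroup G) ≤ closure {t : G | t * t = 1} := fun r hr => subset_closure (hsq r hr)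
  have hN : normalizer ((R : Subgroup G) : Set G) ≤ normalizer (W : Set G) := hWN
  have hcent : ∀ {M : Subgroup G}, (∀ r ∈ (R : Subgroup G), r ≠ 1 → Oc r ≤ M) → (R : Subgroup G) ≤ M →
      ∀ s ∈ (R : Subgroup G), orderOf s = 2 → centralizer ({s} : Set G) ≤ M := by
    intro M hO hR s hs hs2 g hg
    obtain ⟨o, ho, p, hp, rfl⟩ := (hC s hs (Invol.ne_one hs2)).1 g hg
    exact mul_mem (hO s hs (Invol.ne_one hs2) ho) (hR hp)
  have htop : normalizer (W : Set G) = ⊤ := top_of_cent R hgen hN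
    (hcent (fun r hr hr1 => (hWle r hr hr1).trans le_normalizer) (le_normalizer.trans hN))
    hx (order_two (hsq x hx) hx1) hy (order_two (hsq y hy) hy1) hxy
  have hWO : W ≤ Cfsg.oddCore G := le_ocore (normalizer_eq_top_iff.1 htop) hW
  have htop2 : Cfsg.oddCore G ⊔ normalizer ((R : Subgroup G) : Set G) = ⊤ := top_of_cent R hgen le_sup_right
    (hcent (fun r hr hr1 => ((hWle r hr hr1).trans hWO).trans le_sup_left) (le_normalizer.trans le_sup_right))
    hx (order_two (hsq x hx) hx1) hy (order_two (hsq y hy) hy1) hxy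
  intro g
  have hg : g ∈ Cfsg.oddCore G ⊔ normalizer ((R : Subgroup G) : Set G) := htop2 ▸ mem_top g
  have : (Cfsg.oddCore G).Normal := ocore_normal
  rw [← SetLike.mem_coe, Subgroup.normal_mul] at hg
  obtain ⟨o, ho, n, hn, rfl⟩ := hg
  exact ⟨o, ho, n, hn, rfl⟩

end CfsgLib.A8Three
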