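import Cfsg.Agent.A8Three.Model
import Cfsg.Agent.A8Three.Tools

/-!
A Sylow 2-subgroup of type `Alt(8)` in coordinates, with three classes of involutions.
-/

set_option autoImplicit false
set_option linter.unusedSectionVars false
set_option linter.style.haveILetI false

namespace CfsgLib.A8Three

open Subgroup CfsgLib.SylL34

/-- Coordinates on a Sylow subgroup; the kinds of involutions are not fused; some element of its normalizer
moves each of the three cosets of the base. -/
structure Cfg {G : Type*} [Group G] (S : Sylow 2 G) (el : T →* G) : Prop where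
  inj : Function.Injective el
  range : el.range = (S : Subgroup G)
  fus : ∀ x y : T, ty x ≠ 0 → ty y ≠ 0 → IsConj (el x) (el y) → ty x = ty y
  rot : ∃ n ∈ normalizer ((S : Subgroup G) : Set G), ∀ p : Fin 4, p ≠ 0 →
    ∃ b q, q ≠ 0 ∧ q ≠ p ∧ n * el ⟨0, p⟩ * n⁻¹ = el ⟨b, q⟩

variable {G : Type*} [Group G] [Finite G] {S : Sylow 2 G} {el : T →* G}

namespace Cfg

variable (D : Cfg S el)
include D

theorem mem_S (x : T) : el x ∈ (S : Subgroup G) := D.range ▸ ⟨x, rfl⟩

theorem exists_el {g : G} (hg : g ∈ (S : Subgroup G)) : ∃ x, el x = g := by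
  rwa [← D.range] at hg

theorem el_eq_one {x : T} : el x = 1 ↔ x = 1 := ⟨fun h => D.inj (h.trans (map_one el).symm), fun h => h ▸ map_one el⟩

theorem order_el {x : T} (hx : ty x ≠ 0) : orderOf (el x) = 2 :=
  order_two (by rw [← map_mul, (ty_sq x hx).2, map_one]) fun h => (ty_sq x hx).1 (D.el_eq_one.1 h)

theorem conj_ty {x y : T} (hx : ty x ≠ 0) {g : G} (h : g * el x * g⁻¹ = el y) : ty y = ty x := by
  refine (D.fus x y hx (fun h0 => ?_) (isConj_iff.2 ⟨g, h⟩)).symm
  rcases ty_zero y h0 with rfl | hy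
  · rw [map_one] at h
    exact (ty_sq x hx).1 (D.el_eq_one.1 (conj_eq_one_iff.1 h))
  · refine hy (D.inj ?_)
    rw [map_mul, map_one, ← h]
    exact conj_sq g _ (by rw [← map_mul, (ty_sq x hx).2, map_one])

theorem conj_into {x : T} (hx : ty x ≠ 0) {g : G} (h : g * el x * g⁻¹ ∈ (S : Subgroup G)) :
    ∃ y, el y = g * el x * g⁻¹ ∧ ty y = ty x := by
  obtain ⟨y, hy⟩ := D.exists_el h
  exact ⟨y, hy, D.conj_ty hx hy.symm⟩

theorem conj_base_mem {x : T} (hx : x.p = 0) {g : G} (h : g * el x * g⁻¹ ∈ (S : Subgroup G)) :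
    g * el x * g⁻¹ ∈ base.map el := by
  by_cases hx1 : x = 1
  · rw [hx1, map_one, mul_one, mul_inv_cancel]
    exact one_mem _
  have ht := (ty_base x).2 ⟨hx, hx1⟩
  obtain ⟨y, hy, hyt⟩ := D.conj_into (by rcases ht with e | e <;> rw [e] <;> decide) h
  exact ⟨y, ((ty_base y).1 (by rwa [hyt])).1, hy⟩

theorem el_mem_base {x : T} : el x ∈ base.map el ↔ x.p = 0 :=
  ⟨fun ⟨y, hy, e⟩ => D.inj e ▸ hy, fun h => mem_map_of_mem el h⟩

theorem base_le : base.map el ≤ (S : Subgroup G) := by rintro _ ⟨x, -, rfl⟩; exact D.mem_S x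

theorem base_sq : ∀ g ∈ base.map el, g * g = 1 := by
  rintro _ ⟨x, hx, rfl⟩
  rw [← map_mul, A8Three.base_sq x hx, map_one]

theorem card_base : Nat.card (base.map el) = 16 := by
  rw [card_map_of_injective D.inj, Nat.card_congr (Equiv.ofBijective (fun x : base => (x : T).a)
    ⟨fun x y h => Subtype.ext (T.ext h (x.2.trans y.2.symm)), fun a => ⟨⟨⟨a, 0⟩, rfl⟩, rfl⟩⟩)]
  simp

theorem base_elab : Cfsg.IsElementaryAbelian 2 (base.map el) :=
  ⟨⟨⟨fun a b => Subtype.ext (comm_of_sq D.base_sq a.2 b.2)⟩⟩, fun a ha => by rw [sq]; exact D.base_sq a ha⟩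

theorem normS_le : normalizer ((S : Subgroup G) : Set G) ≤ normalizer (base.map el : Set G) :=
  fun n hn => mem_normalizer_of_conj_mem (by
    rintro _ ⟨x, hx, rfl⟩
    exact D.conj_base_mem hx (conj_mem_of_normalizer hn (D.mem_S x)))

theorem S_le : (S : Subgroup G) ≤ normalizer (base.map el : Set G) := le_normalizer.trans D.normS_le

theorem conj_el_base (g : T) : el g ∈ normalizer (base.map el : Set G) := D.S_le (D.mem_S g)

theorem normS_zz {n : G} (hn : n ∈ normalizer ((S : Subgroup G) : Set G)) : n * el zz * n⁻¹ = el zz := by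
  obtain ⟨y, hy, hyt⟩ := D.conj_into (by decide : ty zz ≠ 0) (conj_mem_of_normalizer hn (D.mem_S zz))
  have hc : ∀ u, y * u = u * y := by
    intro u
    refine D.inj ?_
    obtain ⟨v, hv⟩ := D.exists_el (conj_mem_of_normalizer (inv_mem hn) (D.mem_S u))
    have h1 : el zz * el v = el v * el zz := by rw [← map_mul, ← map_mul, zz_comm v]
    have h2 : el u = n * el v * n⁻¹ := by rw [hv]; group
    rw [map_mul, map_mul, hy, h2, show n * el zz * n⁻¹ * (n * el v * n⁻¹) = n * (el zz * el v) * n⁻¹ by group, h1]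
    group
  rcases center_zz y hc with rfl | rfl
  · exact absurd hyt (by decide)
  · exact hy.symm

theorem gen_invols : (S : Subgroup G) ≤ closure {t : G | t * t = 1} := fun g hg => by
  obtain ⟨x, rfl⟩ := D.exists_el hg
  rw [split x, map_mul]
  exact mul_mem (subset_closure (show el ⟨x.a, 0⟩ * el ⟨x.a, 0⟩ = 1 by
      rw [← map_mul, A8Three.base_sq _ rfl, map_one]))
    (subset_closure (show el ⟨0, x.p⟩ * el ⟨0, x.p⟩ = 1 by rw [← map_mul, tau_sq, map_one]))

/-- The coordinates restrict to a subgroup containing the Sylow subgroup and a rotation. -/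
theorem restrict (H : Subgroup G) (hH : (S : Subgroup G) ≤ H)
    (hR : normalizer ((S : Subgroup G) : Set G) ≤ H) :
    Cfg (S.subtype hH) (el.codRestrict H fun x => hH (D.mem_S x)) := by
  refine ⟨fun x y h => D.inj (congrArg Subtype.val h), ?_, fun x y hx hy h => ?_, ?_⟩
  · ext g
    rw [Sylow.coe_subtype, mem_subgroupOf]
    refine ⟨?_, fun hg => ?_⟩
    · rintro ⟨x, rfl⟩
      exact D.mem_S x
    · obtain ⟨x, hx⟩ := D.exists_el hg
      exact ⟨x, Subtype.ext hx⟩
  · obtain ⟨c, hc⟩ := isConj_iff.1 h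
    exact D.fus x y hx hy (isConj_iff.2 ⟨c, congrArg Subtype.val hc⟩)
  · obtain ⟨n, hn, h⟩ := D.rot
    refine ⟨⟨n, hR hn⟩, mem_normalizer_of_conj_mem fun x hx => ?_, fun p hp => ?_⟩
    · rw [Sylow.coe_subtype, mem_subgroupOf] at hx ⊢
      exact conj_mem_of_normalizer hn hx
    · obtain ⟨b, q, hq, hqp, e⟩ := h p hp
      exact ⟨b, q, hq, hqp, Subtype.ext e⟩

end Cfg

end CfsgLib.A8Three
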