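import Cfsg.Agent.A8Three.Basic
import Cfsg.Agent.A8Three.CentralModel

/-!
Automorphisms of the even part fixing a nontrivial element modulo the centre.
-/

set_option autoImplicit false
set_option linter.unusedSectionVars false
set_option linter.style.haveILetI false

namespace CfsgLib.A8Three

open Subgroup CfsgLib.SylL34

variable {G : Type*} [Group G] [Finite G] {S : Sylow 2 G} {el : T →* G}

namespace Cfg

variable (D : Cfg S el)
include D

/-- An element of odd order modulo the kernel of the action, fixing a nontrivial class, fixes all classes. -/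
theorem free_aux (hz : ∀ g : G, g * el zz = el zz * g) {n : G}
    (hn : ∀ x : T, ev x.a = true → ∃ y : T, ev y.a = true ∧ n * el x * n⁻¹ = el y) {m : ℕ} (hm : Odd m)
    (hnm : ∀ x : T, ev x.a = true → ∃ y : T, Eqz x y ∧ n ^ m * el x * (n ^ m)⁻¹ = el y)
    {r : T} (hr : ev r.a = true) (hr1 : r ≠ 1) (hrz : r ≠ zz)
    (hrn : ∃ y : T, Eqz r y ∧ n * el r * n⁻¹ = el y) :
    ∀ x : T, ev x.a = true → ∃ y : T, Eqz x y ∧ n * el x * n⁻¹ = el y := by
  classical
  choose! φ hφe hφ using hn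
  have hφu : ∀ {x y : T}, ev x.a = true → n * el x * n⁻¹ = el y → φ x = y := fun hx h =>
    D.inj ((hφ _ hx).symm.trans h)
  have hzz : ev zz.a = true := by decide
  have hone : ev (1 : T).a = true := by decide
  have hφz : φ zz = zz := hφu hzz (by rw [hz n, mul_inv_cancel_right])
  have hφ1 : φ 1 = 1 := hφu hone (by rw [map_one, mul_one, mul_inv_cancel])
  have hev : ∀ {x y : T}, ev x.a = true → ev y.a = true → ev (x * y).a = true := fun {x y} hx hy =>
    mem_evens.1 (mul_mem (show x ∈ evens from hx) (show y ∈ evens from hy))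
  have hmul : ∀ {x y : T}, ev x.a = true → ev y.a = true → φ (x * y) = φ x * φ y := fun {x y} hx hy =>
    hφu (hev hx hy) (by rw [map_mul, map_mul, ← hφ x hx, ← hφ y hy]; group)
  have hinj : ∀ {x y : T}, ev x.a = true → ev y.a = true → φ x = φ y → x = y := fun {x y} hx hy h =>
    D.inj (mul_left_cancel (mul_right_cancel ((hφ x hx).trans ((congrArg el h).trans (hφ y hy).symm))))
  have hcongr : ∀ {x y : T}, ev x.a = true → Eqz x y → Eqz (φ x) (φ y) := fun {x y} hx h => by
    rcases h with rfl | rfl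
    · exact eqz_refl _
    · exact Or.inr (by rw [hmul hx hzz, hφz])
  have hrefl : ∀ {x y : T}, ev x.a = true → ev y.a = true → Eqz (φ x) (φ y) → Eqz x y := fun {x y} hx hy h => by
    rcases h with h | h
    · exact Or.inl (hinj hy hx h)
    · exact Or.inr (hinj hy (hev hx hzz) (h.trans (by rw [hmul hx hzz, hφz])))
  -- from a square of trivial action to trivial action
  have odd : ∀ P : T → Prop, (∀ x, P x → ev x.a = true) → (∀ x, P x → P (φ x)) →
      (∀ x, P x → Eqz x (φ (φ x))) → ∀ x, P x → Eqz x (φ x) := by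
    intro P hP hPφ h2 x hx
    obtain ⟨j, rfl⟩ := hm
    have hit : ∀ i : ℕ, P (φ^[2 * i] x) ∧ Eqz x (φ^[2 * i] x) := by
      intro i
      induction i with
      | zero => exact ⟨hx, eqz_refl x⟩
      | succ i ih =>
        rw [show 2 * (i + 1) = 2 * i + 1 + 1 by ring, Function.iterate_succ_apply', Function.iterate_succ_apply']
        exact ⟨hPφ _ (hPφ _ ih.1), eqz_trans ih.2 (h2 _ ih.1)⟩
    have hpow : ∀ i : ℕ, ev (φ^[i] x).a = true ∧ n ^ i * el x * (n ^ i)⁻¹ = el (φ^[i] x) := by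
      intro i
      induction i with
      | zero => exact ⟨hP x hx, by simp⟩
      | succ i ih =>
        rw [Function.iterate_succ_apply']
        refine ⟨hφe _ ih.1, ?_⟩
        rw [← hφ _ ih.1, ← ih.2, pow_succ']
        group
    obtain ⟨y, hy, he⟩ := hnm x (hP x hx)
    rw [(hpow (2 * j + 1)).2] at he
    rw [← D.inj he, Function.iterate_succ_apply'] at hy
    exact eqz_trans hy (eqz_symm (hcongr (hP x hx) (hit j).2))
  -- the base
  have hbase : ∀ {x : T}, x.p = 0 → ev x.a = true → (φ x).p = 0 := by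
    intro x hx0 hx
    by_cases hx1 : x = 1
    · rw [hx1, hφ1]; rfl
    have ht := (ty_base x).2 ⟨hx0, hx1⟩
    have := D.conj_ty (by rcases ht with e | e <;> rw [e] <;> decide) (hφ x hx)
    exact ((ty_base (φ x)).1 (by rwa [this])).1
  have hpair : ∀ {x : T}, Pair x → Pair (φ x) := fun {x} h => by
    refine ⟨hbase h.1 h.2.1, hφe x h.2.1, fun e => h.2.2.1 (hinj h.2.1 hone (e.trans hφ1.symm)),
      fun e => h.2.2.2 (hinj h.2.1 hzz (e.trans hφz.symm))⟩
  obtain ⟨c, hc, hcc⟩ : ∃ c, Pair c ∧ Eqz c (φ c) := by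
    obtain ⟨y, hy, hy'⟩ := hrn
    have hyr : Eqz r (φ r) := by rwa [hφu hr hy']
    by_cases hp : r.p = 0
    · exact ⟨r, ⟨hp, hr, hr1, hrz⟩, hyr⟩
    obtain ⟨a, ha, hac⟩ := pair_exists r hr hp
    refine ⟨⟨a, 0⟩, ha, ?_⟩
    have h1 : φ r * φ ⟨a, 0⟩ = φ ⟨a, 0⟩ * φ r := by rw [← hmul hr ha.2.1, hac, hmul ha.2.1 hr]
    have h2 : r * φ ⟨a, 0⟩ = φ ⟨a, 0⟩ * r := by
      rcases hyr with e | e <;> rw [e] at h1
      · exact h1
      · rw [mul_assoc, ← zz_comm, ← mul_assoc, ← mul_assoc] at h1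
        exact mul_right_cancel h1
    have hp' := hpair ha
    have e : φ ⟨a, 0⟩ = ⟨(φ ⟨a, 0⟩).a, 0⟩ := T.ext rfl hp'.1
    rw [e] at hp' h2 ⊢
    exact pair_unique r hr hp a _ ha hp' hac h2
  have hV2 : ∀ x : T, x.p = 0 ∧ ev x.a = true → Eqz x (φ (φ x)) := by
    rintro d ⟨hd0, hd⟩
    rcases pair_of_base d hd0 hd with rfl | rfl | hdp
    · rw [hφ1, hφ1]; exact eqz_refl _
    · rw [hφz, hφz]; exact eqz_refl _
    by_cases hcd : Eqz c d
    · exact eqz_trans (eqz_symm hcd) (eqz_trans (eqz_trans hcc (hcongr hc.2.1 hcc))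
        (hcongr (hφe _ hc.2.1) (hcongr hc.2.1 hcd)))
    have hne : ¬ Eqz c (φ d) := fun h => hcd (hrefl hc.2.1 hd (eqz_trans (eqz_symm hcc) h))
    have hex : ∀ x : T, x.p = 0 → (⟨x.a, 0⟩ : T) = x := fun x h => T.ext rfl h.symm
    have hp' := hpair hdp
    have h3 := pair_third c.a d.a (φ d).a (by rw [hex c hc.1]; exact hc) (by rw [hex d hd0]; exact hdp)
      (by rw [hex _ hp'.1]; exact hp') (by rw [hex c hc.1, hex d hd0]; exact hcd)
      (by rw [hex c hc.1, hex _ hp'.1]; exact hne)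
    rw [hex c hc.1, hex d hd0, hex _ hp'.1] at h3
    rcases h3 with h | h
    · exact eqz_trans h (hcongr hd h)
    · have h4 : Eqz (φ c * φ d) (φ (φ d)) := by
        rw [← hmul hc.2.1 hd]
        exact hcongr (hev hc.2.1 hd) h
      have h5 : Eqz d (φ c * φ d) := by
        have := eqz_mul hcc h
        rwa [← mul_assoc, A8Three.base_sq c hc.1, one_mul] at this
      exact eqz_trans h5 h4
  have hV : ∀ x : T, x.p = 0 ∧ ev x.a = true → Eqz x (φ x) :=
    odd (fun x => x.p = 0 ∧ ev x.a = true) (fun _ h => h.2) (fun _ h => ⟨hbase h.1 h.2, hφe _ h.2⟩) hV2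
  -- outside the base
  have hall2 : ∀ x : T, ev x.a = true → Eqz x (φ (φ x)) := by
    intro x hx
    have hd : ∀ a : Fin 16, ev a = true → φ x * x⁻¹ * ⟨a, 0⟩ = ⟨a, 0⟩ * (φ x * x⁻¹) := by
      intro a ha
      set b : T := ⟨a, 0⟩
      have hb : ev b.a = true := ha
      have hxi : ev x⁻¹.a = true := mem_evens.1 (inv_mem (show x ∈ evens from hx))
      have hbx := evens_conj b x⁻¹ hb
      rw [inv_inv] at hbx
      have h1 : φ x⁻¹ = (φ x)⁻¹ := eq_inv_of_mul_eq_one_left (by rw [← hmul hxi hx, inv_mul_cancel, hφ1])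
      have hkey : φ (x⁻¹ * b * x) = (φ x)⁻¹ * φ b * φ x := by rw [hmul (hev hxi hb) hx, hmul hxi hb, h1]
      have hfix : (φ x)⁻¹ * b * φ x = x⁻¹ * b * x := by
        rcases even_comm x hx a ha with e' | e' <;> change x⁻¹ * b * x = _ at e' <;>
          rw [e'] at hkey ⊢ <;> rcases hV b ⟨rfl, hb⟩ with e | e
        · rwa [e, eq_comm] at hkey
        · rw [e, ← mul_assoc, mul_assoc _ zz, ← zz_comm, ← mul_assoc] at hkey
          exact (mul_right_cancel hkey).symm
        · rw [hmul hb hzz, hφz, e, eq_comm] at hkey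
          exact hkey
        · rw [hmul hb hzz, hφz, e, ← mul_assoc ((φ x)⁻¹) b zz, mul_assoc _ zz (φ x), ← zz_comm,
            ← mul_assoc] at hkey
          exact (mul_right_cancel hkey).symm
      calc φ x * x⁻¹ * b = φ x * (x⁻¹ * b * x) * x⁻¹ := by group
        _ = _ := by rw [← hfix]; group
    have hde : ev (φ x * x⁻¹).a = true := hev (hφe x hx) (mem_evens.1 (inv_mem (show x ∈ evens from hx)))
    have hd0 := pairs_self _ hde hd
    have e : φ x = φ x * x⁻¹ * x := by group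
    have e2 : φ (φ x) = φ (φ x * x⁻¹) * (φ x * x⁻¹ * x) := by
      conv_lhs => rw [e, hmul hde hx]
      rw [← e]
    rcases hV _ ⟨hd0, hde⟩ with h | h <;> rw [h] at e2
    · exact Or.inl (by rw [e2, ← mul_assoc, A8Three.base_sq _ hd0, one_mul])
    · refine Or.inr ?_
      rw [e2, mul_assoc (φ x * x⁻¹) zz, ← zz_comm, ← mul_assoc, ← mul_assoc, A8Three.base_sq _ hd0, one_mul]
  exact fun x hx => ⟨φ x, odd (fun x => ev x.a = true) (fun _ h => h) hφe hall2 x hx, (hφ x hx)⟩

end Cfg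

end CfsgLib.A8Three
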