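import Cfsg.Agent.A8Three.Basic
import Cfsg.Agent.A8Three.Free
import Cfsg.Agent.Invol.ThompsonTransfer

/-!
The centralizer of the central involution: `H = O(H) N(A)`.
-/

set_option autoImplicit false
set_option linter.unusedSectionVars false
set_option linter.style.haveILetI false

namespace CfsgLib.A8Three

open Subgroup CfsgLib.SylL34

variable {G : Type*} [Group G] [Finite G] {S : Sylow 2 G} {el : T →* G}

namespace Cfg

variable (D : Cfg S el)
include D

/-- A subgroup of index two meets the Sylow subgroup in the elements of even weight. -/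
theorem exists_kernel (hz : ∀ g : G, g * el zz = el zz * g) :
    ∃ K : Subgroup G, K.Normal ∧ K.index = 2 ∧ ∀ x : T, el x ∈ K ↔ ev x.a = true := by
  have : Fact (Nat.Prime 2) := ⟨Nat.prime_two⟩
  have hrel : (evens.map el).relIndex (S : Subgroup G) = 2 := by
    rw [← D.range, MonoidHom.range_eq_map, relIndex_map_map, el.ker_eq_bot D.inj, sup_bot_eq, sup_bot_eq,
      relIndex_top_right]
    refine index_eq_two_iff.2 ⟨⟨1, 0⟩, fun x => ?_⟩
    show Xor (ev (x * ⟨1, 0⟩).a = true) (ev x.a = true)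
    rw [evens_index x]
    cases ev x.a <;> simp [Xor]
  have hodd : Odd (S : Subgroup G).index :=
    Nat.not_even_iff_odd.1 fun h => S.not_dvd_index (even_iff_two_dvd.1 h)
  obtain ⟨h71, h7e, -, -⟩ := seven
  rcases ThompsonTransfer.thompson_transfer (S : Subgroup G) (evens.map el) hodd hrel (u := el ⟨7, 0⟩)
      (by rw [← map_mul, A8Three.base_sq _ rfl, map_one]) with ⟨K, hKn, hKi, h7⟩ | ⟨g, hg⟩
  swap
  · exfalso
    obtain ⟨y, hy, e⟩ := hg
    have ht := D.conj_ty (by rw [h71]; decide) e.symm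
    rw [h71] at ht
    obtain rfl := not_zz_seven y ht hy
    have h : el ⟨7, 0⟩ = el zz := by
      calc el ⟨7, 0⟩ = g⁻¹ * (g * el ⟨7, 0⟩ * g⁻¹) * g := by group
        _ = g⁻¹ * (el zz * g) := by rw [← e]; group
        _ = el zz := by rw [← hz g]; group
    exact absurd (D.inj h) (by decide)
  refine ⟨K, hKn, hKi, ?_⟩
  set ψ : T →* Multiplicative (ZMod 2) := (ThompsonTransfer.parity K hKi).comp el with hψ
  have hmem : ∀ x, ψ x = 1 ↔ el x ∈ K := fun x => by
    refine ⟨fun h => by_contra fun hx => ?_, fun h => ThompsonTransfer.parity_apply_mem hKi h⟩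
    exact signs.1 ((ThompsonTransfer.parity_apply_not_mem hKi hx).symm.trans h)
  have hc : ∀ u v : T, ψ (u * v * u⁻¹) = ψ v := fun u v => by rw [map_mul, map_mul, map_inv]; exact mul_inv_cancel_comm _ _
  have hsh : ∀ p : Fin 4, ψ ⟨sh p 1, 0⟩ = ψ ⟨1, 0⟩ := fun p => by rw [← conj_base p 1, hc]
  have h2 : ψ ⟨2, 0⟩ = ψ ⟨1, 0⟩ := by rw [← hsh 1]; congr 1
  have h4 : ψ ⟨4, 0⟩ = ψ ⟨1, 0⟩ := by rw [← hsh 2]; congr 1
  have h8 : ψ ⟨8, 0⟩ = ψ ⟨1, 0⟩ := by rw [← hsh 3]; congr 1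
  have hbase : ∀ a : Fin 16, ψ ⟨a, 0⟩ = ψ ⟨1, 0⟩ ^ (a.val % 2 + (a.val / 2 % 2 + (a.val / 4 % 2 + a.val / 8))) :=
    fun a => by
      conv_lhs => rw [base_bits a]
      rw [map_mul, map_mul, map_mul, map_pow, map_pow, map_pow, map_pow, h2, h4, h8, pow_add, pow_add, pow_add]
  have h1 : ψ ⟨1, 0⟩ = Multiplicative.ofAdd (1 : ZMod 2) := by
    by_contra hne
    have h0 : ψ ⟨1, 0⟩ = 1 := by
      exact signs.2 _ hne
    exact h7 ((hmem _).1 (by rw [hbase, h0, one_pow]))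
  have hb : ∀ a : Fin 16, ψ ⟨a, 0⟩ = if ev a = true then 1 else Multiplicative.ofAdd (1 : ZMod 2) := fun a => by
    rw [hbase, h1, bits_parity]
  have htau : ∀ p : Fin 4, ψ ⟨0, p⟩ = 1 := by
    obtain ⟨n, -, hn⟩ := D.rot
    have hr : ∀ p : Fin 4, p ≠ 0 → ∃ q, q ≠ 0 ∧ q ≠ p ∧ ψ ⟨0, p⟩ = ψ ⟨0, q⟩ := by
      intro p hp
      obtain ⟨b, q, hq, hqp, e⟩ := hn p hp
      refine ⟨q, hq, hqp, ?_⟩
      have hev : ev b = true :=
        (ty_out ⟨b, q⟩ ((D.conj_ty (by rw [tau_out p hp]; decide) e).trans (tau_out p hp))).2.1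
      have e2 := congrArg (ThompsonTransfer.parity K hKi) e
      rw [map_mul, map_mul, map_inv, mul_inv_cancel_comm] at e2
      change ψ ⟨0, p⟩ = ψ ⟨b, q⟩ at e2
      rw [e2, split ⟨b, q⟩, map_mul, hb, if_pos hev, one_mul]
    exact rot_const (fun p => ψ ⟨0, p⟩) (map_one ψ) (by rw [← map_mul, tau_mul]) hr
  intro x
  rw [← hmem, split x, map_mul, hb, htau, mul_one]
  have e : (⟨x.a, 0⟩ * ⟨0, x.p⟩ : T) = x := (split x).symm
  rw [e]
  by_cases h : ev x.a = true <;> simp [h, signs.1]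

/-- The subgroup of index two is the normalizer of the even part modulo its core. -/
theorem kernel_split (hz : ∀ g : G, g * el zz = el zz * g) {K : Subgroup G} (hKn : K.Normal)
    (hK : ∀ x : T, el x ∈ K ↔ ev x.a = true) :
    ∀ k ∈ K, ∃ o ∈ Cfsg.oddCore G, ∃ n ∈ normalizer (evens.map el : Set G), k = o * n := by
  have : Fact (Nat.Prime 2) := ⟨Nat.prime_two⟩
  set M := evens.map el with hM
  have hMK : M ≤ K := by rintro _ ⟨x, hx, rfl⟩; exact (hK x).2 hx
  have hMS : M ≤ (S : Subgroup G) := by rintro _ ⟨x, -, rfl⟩; exact D.mem_S x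
  obtain ⟨P, hP⟩ := exists_sylow_eq hMK (S.2.to_le hMS) fun R hR hMR hRK => by
    obtain ⟨g, hg⟩ := exists_cj_le S hR
    have hle : cj g R ≤ M := fun y hy => by
      obtain ⟨x, rfl⟩ := D.exists_el (hg hy)
      refine mem_map_of_mem el ((hK x).1 ?_)
      obtain ⟨w, hw, e⟩ := hy
      rw [← e]
      exact hKn.conj_mem w (hRK hw) g
    exact (eq_of_le_of_card_ge hMR (by have := card_le_of_le hle; rwa [card_cj] at this)).ge
  set cK : K := ⟨el zz, (hK zz).2 (by decide)⟩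
  have hccK : ∀ k : K, k * cK = cK * k := fun k => Subtype.ext (hz k)
  have hc2 : cK * cK = 1 := Subtype.ext (by show el zz * el zz = 1; rw [← map_mul, zz_sq, map_one])
  haveI : (zpowers cK).Normal := by
    refine ⟨fun x hx g => ?_⟩
    obtain ⟨i, rfl⟩ := mem_zpowers_iff.1 hx
    rwa [((show Commute g cK from hccK g).zpow_right i).eq, mul_inv_cancel_right]
  set f := QuotientGroup.mk' (zpowers cK)
  have hf : Function.Surjective f := QuotientGroup.mk'_surjective _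
  -- elements of the even part
  let e : ∀ x : T, ev x.a = true → K := fun x hx => ⟨el x, (hK x).2 hx⟩
  have hPe : ∀ k : K, k ∈ (P : Subgroup K) ↔ ∃ x, ∃ hx : ev x.a = true, e x hx = k := by
    intro k
    rw [hP, mem_subgroupOf]
    exact ⟨fun ⟨x, hx, h⟩ => ⟨x, hx, Subtype.ext h⟩, fun ⟨x, hx, h⟩ => ⟨x, hx, congrArg Subtype.val h⟩⟩
  have hfz : f cK = 1 := (QuotientGroup.eq_one_iff cK).2 (mem_zpowers cK)
  have hker : ∀ k : K, f k = 1 → k = 1 ∨ k = cK := by
    intro k hk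
    obtain ⟨i, rfl⟩ := mem_zpowers_iff.1 ((QuotientGroup.eq_one_iff k).1 hk)
    rcases Int.even_or_odd i with ⟨j, rfl⟩ | ⟨j, rfl⟩
    · exact Or.inl (by rw [zpow_add, ← (Commute.refl cK).mul_zpow, hc2, one_zpow])
    · exact Or.inr (by rw [zpow_add, two_mul, zpow_add, ← (Commute.refl cK).mul_zpow, hc2, one_zpow, one_mul, zpow_one])
  have hcong : ∀ x y : T, ∀ (hx : ev x.a = true) (hy : ev y.a = true), f (e x hx) = f (e y hy) ↔ Eqz x y := by
    intro x y hx hy
    constructor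
    · intro h
      have h1 := hker ((e x hx)⁻¹ * e y hy) (by rw [map_mul, map_inv, h, inv_mul_cancel])
      rcases h1 with h1 | h1 <;> have h2 := congrArg Subtype.val h1 <;>
        change (el x)⁻¹ * el y = _ at h2 <;> rw [inv_mul_eq_iff_eq_mul] at h2
      · exact Or.inl (D.inj (h2.trans (mul_one _)))
      · exact Or.inr (D.inj (h2.trans (map_mul el x zz).symm))
    · rintro (rfl | rfl)
      · rfl
      · rw [show e (x * zz) hy = e x hx * cK from Subtype.ext (map_mul el x zz), map_mul, hfz, mul_one]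
  set R := P.mapSurjective hf
  have hR : (R : Subgroup (K ⧸ zpowers cK)) = (P : Subgroup K).map f := P.coe_mapSurjective hf
  have hRe : ∀ q ∈ (R : Subgroup (K ⧸ zpowers cK)), ∃ x, ∃ hx : ev x.a = true, f (e x hx) = q := by
    intro q hq
    rw [hR] at hq
    obtain ⟨k, hk, rfl⟩ := hq
    obtain ⟨x, hx, rfl⟩ := (hPe k).1 hk
    exact ⟨x, hx, rfl⟩
  have heR : ∀ x (hx : ev x.a = true), f (e x hx) ∈ (R : Subgroup (K ⧸ zpowers cK)) := fun x hx => by
    rw [hR]; exact mem_map_of_mem f ((hPe _).2 ⟨x, hx, rfl⟩)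
  have hsq : ∀ q ∈ (R : Subgroup (K ⧸ zpowers cK)), q * q = 1 := by
    intro q hq
    obtain ⟨x, hx, rfl⟩ := hRe q hq
    rw [← map_mul]
    rcases even_sq x hx with h | h
    · rw [show e x hx * e x hx = 1 from Subtype.ext (by show el x * el x = 1; rw [← map_mul, h, map_one]), map_one]
    · rw [show e x hx * e x hx = cK from Subtype.ext (by show el x * el x = el zz; rw [← map_mul, h]), hfz]
  have h8 : 8 ≤ Nat.card (R : Subgroup (K ⧸ zpowers cK)) := by
    let pts : Fin 8 → T := fun k => ⟨![0, 3, 5, 6, 0, 3, 5, 6] k, if k.val < 4 then 0 else 1⟩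
    have h : ∀ i, ev (pts i).a = true := fun i => (even_card_pts i i).1
    let g : Fin 8 → (R : Subgroup (K ⧸ zpowers cK)) := fun i => ⟨_, heR (pts i) (h i)⟩
    have := Nat.card_le_card_of_injective g fun i j hij =>
      (even_card_pts i j).2 ((hcong _ _ (h i) (h j)).1 (congrArg Subtype.val hij))
    rwa [Nat.card_fin] at this
  have hlift : ∀ n : K, f n ∈ normalizer ((R : Subgroup (K ⧸ zpowers cK)) : Set (K ⧸ zpowers cK)) →
      ∀ x (hx : ev x.a = true), ∃ y, ∃ hy : ev y.a = true, n * e x hx * n⁻¹ = e y hy := by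
    intro n hn x hx
    obtain ⟨w, hw, hwe⟩ := hRe _ (conj_mem_of_normalizer hn (heR x hx))
    rw [← map_inv, ← map_mul, ← map_mul] at hwe
    rcases hker ((e w hw)⁻¹ * (n * e x hx * n⁻¹)) (by rw [map_mul, map_inv, hwe, inv_mul_cancel]) with h | h <;>
      rw [inv_mul_eq_iff_eq_mul] at h
    · exact ⟨w, hw, h.trans (mul_one _)⟩
    · exact ⟨w * zz, evens_eqz hw, h.trans (Subtype.ext (map_mul el w zz).symm)⟩
  have hfree : ∀ r ∈ (R : Subgroup (K ⧸ zpowers cK)), r ≠ 1 →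
      ∀ n ∈ normalizer ((R : Subgroup (K ⧸ zpowers cK)) : Set (K ⧸ zpowers cK)), n * r = r * n →
      ∀ q ∈ (R : Subgroup (K ⧸ zpowers cK)), n * q = q * n := by
    intro r hr hr1 n hn hnr q hq
    obtain ⟨n, rfl⟩ := hf n
    obtain ⟨x, hx, rfl⟩ := hRe r hr
    obtain ⟨u, hu, rfl⟩ := hRe q hq
    obtain ⟨m, i, hm, hi⟩ := exists_odd_pow (f n)
    have hnR := mem_of_two hi (pow_mem hn m)
    have hact : ∀ (k : K), f k ∈ normalizer ((R : Subgroup (K ⧸ zpowers cK)) : Set (K ⧸ zpowers cK)) →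
        ∀ v (hv : ev v.a = true), f k * f (e v hv) = f (e v hv) * f k →
        ∃ y, Eqz v y ∧ (k : G) * el v * (k : G)⁻¹ = el y := by
      intro k hk v hv h
      obtain ⟨y, hy, hye⟩ := hlift k hk v hv
      refine ⟨y, (hcong v y hv hy).1 ?_, congrArg Subtype.val hye⟩
      rw [← hye, map_mul, map_mul, map_inv, h, mul_inv_cancel_right]
    have hfix := D.free_aux hz (n := (n : G))
      (fun v hv => by obtain ⟨y, hy, h⟩ := hlift n hn v hv; exact ⟨y, hy, congrArg Subtype.val h⟩) hm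
      (fun v hv => by
        have h := hact (n ^ m) (by rw [map_pow]; exact pow_mem hn m) v hv
          (by rw [map_pow]; exact comm_of_sq hsq hnR (heR v hv))
        rwa [SubgroupClass.coe_pow] at h)
      hx (fun h => hr1 (by subst h; exact (congrArg f (Subtype.ext (map_one el))).trans (map_one f)))
      (fun h => hr1 (by subst h; exact hfz))
      (hact n hn x hx hnr) u hu
    obtain ⟨y, hy, hye⟩ := hfix
    obtain ⟨w, hw, hwe⟩ := hlift n hn u hu
    have hyw : w = y := D.inj ((congrArg Subtype.val hwe).symm.trans hye)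
    have : f (n * e u hu * n⁻¹) = f (e u hu) := by rw [hwe]; exact ((hcong u w hu hw).2 (hyw ▸ hy)).symm
    rw [map_mul, map_mul, map_inv] at this
    exact mul_inv_eq_iff_eq_mul.1 this
  obtain ⟨-, -, h3e, h3p⟩ := seven
  have hxy : ¬ IsConj (f (e ⟨3, 0⟩ h3e)) (f (e ⟨0, 1⟩ (by decide))) := by
    intro h
    obtain ⟨g, hg⟩ := isConj_iff.1 h
    obtain ⟨g, rfl⟩ := hf g
    rw [← map_mul, ← map_inv, ← map_mul] at hg
    rcases hker ((e ⟨0, 1⟩ (by decide))⁻¹ * (g * e ⟨3, 0⟩ h3e * g⁻¹))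
        (by rw [map_mul, map_inv, hg, inv_mul_cancel]) with h | h <;> rw [inv_mul_eq_iff_eq_mul] at h <;>
      have h' := congrArg Subtype.val h
    · rw [mul_one] at h'
      exact absurd (D.conj_ty (x := ⟨3, 0⟩) (g := (g : G)) (y := ⟨0, 1⟩) (by decide +kernel) h') (by decide +kernel)
    · exact absurd (D.conj_ty (x := ⟨3, 0⟩) (g := (g : G)) (y := ⟨0, 1⟩ * zz) (by decide +kernel)
        (h'.trans (map_mul el _ _).symm)) (by decide +kernel)
  have hne : ∀ x (hx : ev x.a = true), ¬ Eqz x 1 → f (e x hx) ≠ 1 := fun x hx h he => h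
    ((hcong x 1 hx (by decide)).1 (by rw [he, show e 1 (by decide) = 1 from Subtype.ext (map_one el), map_one]))
  intro k hk
  obtain ⟨o, ho, n, hn, hkn⟩ := free_sylow R hsq h8 hfree (heR _ h3e) (hne _ h3e (by decide +kernel))
    (heR ⟨0, 1⟩ (by decide)) (hne _ (by decide) (by decide +kernel)) hxy (f ⟨k, hk⟩)
  obtain ⟨n, rfl⟩ := hf n
  have ho' : f (⟨k, hk⟩ * n⁻¹) ∈ Cfsg.oddCore (K ⧸ zpowers cK) := by
    rw [map_mul, map_inv, hkn, mul_inv_cancel_right]; exact ho
  have hcore : ∀ j : K, j ∈ Cfsg.oddCore K → (j : G) ∈ Cfsg.oddCore G := fun j hj =>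
    core_le_ocore hKn ⟨j, hj, rfl⟩
  have hnM : (n : G) ∈ normalizer (M : Set G) := mem_normalizer_of_conj_mem (by
    rintro _ ⟨x, hx, rfl⟩
    obtain ⟨y, hy, h⟩ := hlift n hn x hx
    exact ⟨y, hy, (congrArg Subtype.val h).symm⟩)
  rcases core_lift hc2 hccK ho' with h | h
  · exact ⟨_, hcore _ h, n, hnM, by simp⟩
  · refine ⟨_, hcore _ h, el zz * n, mul_mem (le_normalizer (mem_map_of_mem el (show zz ∈ evens from (by decide : ev zz.a = true)))) hnM, ?_⟩
    show k = k * (n : G)⁻¹ * el zz * (el zz * n)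
    rw [mul_assoc, ← mul_assoc (el zz) (el zz), ← map_mul, zz_sq, map_one, one_mul, inv_mul_cancel_right]

/-- With a central involution the group is `O(H) N(A)`. -/
theorem central (hz : ∀ g : G, g * el zz = el zz * g) :
    ∀ g : G, ∃ o ∈ Cfsg.oddCore G, ∃ n ∈ normalizer (base.map el : Set G), g = o * n := by
  have : Fact (Nat.Prime 2) := ⟨Nat.prime_two⟩
  obtain ⟨K, hKn, hKi, hK⟩ := D.exists_kernel hz
  obtain ⟨h71, h7e, -, -⟩ := seven
  set M := evens.map el with hM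
  set N₁ := normalizer (M : Set G)
  set w := el ⟨7, 0⟩
  have hSN : (S : Subgroup G) ≤ N₁ := fun s hs => mem_normalizer_of_conj_mem (by
    rintro _ ⟨x, hx, rfl⟩
    obtain ⟨y, rfl⟩ := D.exists_el hs
    exact ⟨y * x * y⁻¹, evens_conj x y hx, by simp [map_mul]⟩)
  have hsplit : ∀ g : G, ∃ o ∈ Cfsg.oddCore G, ∃ n ∈ N₁, g = o * n := by
    intro g
    by_cases hg : g ∈ K
    · exact D.kernel_split hz hKn hK g hg
    have hw : w ∉ K := fun h => by rw [hK] at h; exact Bool.false_ne_true (h7e.symm.trans h)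
    have hgw : g * w ∈ K := (mul_mem_iff_of_index_two hKi).2 (iff_of_false hg hw)
    obtain ⟨o, ho, n, hn, h⟩ := D.kernel_split hz hKn hK _ hgw
    refine ⟨o, ho, n * w⁻¹, mul_mem hn (inv_mem (hSN (D.mem_S _))), ?_⟩
    rw [← mul_assoc, ← h, mul_inv_cancel_right]
  set V := (base ⊓ evens).map el with hV
  set E := N₁ ⊓ centralizer (V : Set G)
  have hVM : V ≤ M := map_mono inf_le_right
  have hVconj : ∀ n ∈ N₁, ∀ v ∈ V, n * v * n⁻¹ ∈ V := by
    rintro n hn _ ⟨x, ⟨hx0, hx⟩, rfl⟩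
    obtain ⟨y, hy, e⟩ := conj_mem_of_normalizer hn (mem_map_of_mem el hx)
    exact ⟨y, ⟨(D.el_mem_base).1 (e ▸ D.conj_base_mem hx0 (e ▸ D.mem_S y)), hy⟩, e⟩
  have hNE : N₁ ≤ normalizer (E : Set G) := fun n hn => by
    refine mem_normalizer_of_conj_mem fun x hx => ⟨N₁.mul_mem (N₁.mul_mem hn hx.1) (N₁.inv_mem hn), ?_⟩
    refine mem_centralizer_iff.2 fun v hv => ?_
    have h1 : n⁻¹ * v * n ∈ V := by simpa using hVconj n⁻¹ (inv_mem hn) v hv
    have h2 := mem_centralizer_iff.1 hx.2 _ h1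
    calc v * (n * x * n⁻¹) = n * (n⁻¹ * v * n * x) * n⁻¹ := by group
      _ = n * (x * (n⁻¹ * v * n)) * n⁻¹ := by rw [h2]
      _ = n * x * n⁻¹ * v := by group
  have hAE : base.map el ≤ E := fun a ha => ⟨hSN (D.base_le ha), mem_centralizer_iff.2 fun v hv =>
    comm_of_sq D.base_sq (map_mono inf_le_left hv) ha⟩
  have hAmax : ∀ R : Subgroup G, IsPGroup 2 R → base.map el ≤ R → R ≤ E → R ≤ base.map el := by
    intro R hR hAR hRE
    obtain ⟨g, hg⟩ := exists_cj_le (S.subtype hSN) (P := R.subgroupOf N₁) hR.comap_subtype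
    have hle : cj (g : G) R ≤ base.map el := by
      rintro _ ⟨r, hr, rfl⟩
      have hgr := hg ((conj_mem_cj (g := g)).2 (show (⟨r, (hRE hr).1⟩ : N₁) ∈ R.subgroupOf N₁ from hr))
      rw [Sylow.coe_subtype, mem_subgroupOf] at hgr
      obtain ⟨x, hx⟩ := D.exists_el hgr
      have hxE : (g : G) * r * (g : G)⁻¹ ∈ E := conj_mem_of_normalizer (hNE g.2) (hRE hr)
      show (g : G) * r * (g : G)⁻¹ ∈ base.map el
      have hx' : el x = (g : G) * r * (g : G)⁻¹ := hx
      rw [← hx'] at hxE ⊢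
      refine D.el_mem_base.2 (cent_evens x fun a ha => D.inj ?_)
      rw [map_mul, map_mul]
      exact (mem_centralizer_iff.1 hxE.2 _ ⟨⟨a, 0⟩, ⟨rfl, ha⟩, rfl⟩).symm
    exact (eq_of_le_of_card_ge hAR (by have := card_le_of_le hle; rwa [card_cj] at this)).ge
  have hcent : ∀ n ∈ E, n ∈ normalizer (base.map el : Set G) → ∀ p ∈ base.map el, n * p = p * n := by
    intro n hn hnA
    have hfixV : ∀ v ∈ V, n * v = v * n := fun v hv => (mem_centralizer_iff.1 hn.2 v hv).symm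
    have hoff : ∀ a : Fin 16, ev a = false → ∃ v ∈ V, el ⟨a, 0⟩ = w * v := fun a ha => by
      obtain ⟨b, hb, e⟩ := base_odd a ha
      exact ⟨el ⟨b, 0⟩, ⟨⟨b, 0⟩, ⟨rfl, hb⟩, rfl⟩, by rw [e, map_mul]⟩
    suffices hnw : n * w = w * n by
      rintro _ ⟨⟨a, p⟩, hp : p = 0, rfl⟩
      subst hp
      rcases Bool.eq_false_or_eq_true (ev a) with ha | ha
      · exact hfixV _ ⟨⟨a, 0⟩, ⟨rfl, ha⟩, rfl⟩
      · obtain ⟨v, hv, e⟩ := hoff a ha
        rw [e, ← mul_assoc, hnw, mul_assoc, hfixV v hv, ← mul_assoc]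
    have hwA : w ∈ base.map el := mem_map_of_mem el rfl
    obtain ⟨⟨a, p⟩, hp, e⟩ := conj_mem_of_normalizer hnA hwA
    obtain rfl : p = 0 := hp
    rcases Bool.eq_false_or_eq_true (ev a) with ha | ha
    · exfalso
      have h := hfixV _ ⟨⟨a, 0⟩, ⟨rfl, ha⟩, rfl⟩
      rw [e] at h
      have h2 : n * w * n⁻¹ = w := by
        calc n * w * n⁻¹ = n⁻¹ * (n * (n * w * n⁻¹)) := by group
          _ = n⁻¹ * (n * w * n⁻¹ * n) := by rw [h]
          _ = w := by group
      have h3 : (⟨a, 0⟩ : T) = ⟨7, 0⟩ := D.inj (e.trans h2)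
      obtain rfl : a = 7 := congrArg T.a h3
      exact Bool.false_ne_true (h7e.symm.trans ha)
    obtain ⟨v, hv, hev⟩ := hoff a ha
    rw [hev] at e
    have h2 : n * n * w * (n * n)⁻¹ = w := by
      calc n * n * w * (n * n)⁻¹ = n * (n * w * n⁻¹) * n⁻¹ := by group
        _ = n * (w * v) * n⁻¹ := by rw [← e]
        _ = n * w * n⁻¹ * (n * v * n⁻¹) := by group
        _ = w * v * v := by rw [hfixV v hv, mul_inv_cancel_right, ← e]
        _ = w := by rw [mul_assoc, D.base_sq v (map_mono inf_le_left hv), mul_one]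
    obtain ⟨m, k, ⟨j, rfl⟩, hk⟩ := exists_odd_pow n
    have hnm : n ^ (2 * j + 1) ∈ base.map el := by
      obtain ⟨Q, hQ⟩ := exists_sylow_eq hAE (isPGroup_of_sq D.base_sq) hAmax
      have h1 : (⟨n, hn⟩ : E) ∈ normalizer ((Q : Subgroup E) : Set E) := by
        rw [hQ]
        refine mem_normalizer_of_conj_mem fun x hx => ?_
        exact (mem_normalizer_iff.1 hnA (x : G)).1 hx
      have := mem_of_two (S := Q) (t := (⟨n, hn⟩ : E) ^ (2 * j + 1)) (k := k) (Subtype.ext hk) (pow_mem h1 _)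
      rw [hQ, mem_subgroupOf] at this
      exact this
    have h3 := comm_of_sq D.base_sq hnm hwA
    have h4 : Commute ((n * n) ^ j) w := (show Commute (n * n) w from mul_inv_eq_iff_eq_mul.1 h2).pow_left j
    rw [pow_succ', pow_mul, sq] at h3
    calc n * w = n * ((n * n) ^ j * w * ((n * n) ^ j)⁻¹) := by rw [h4.eq, mul_inv_cancel_right]
      _ = n * (n * n) ^ j * w * ((n * n) ^ j)⁻¹ := by group
      _ = w * (n * (n * n) ^ j) * ((n * n) ^ j)⁻¹ := by rw [h3]
      _ = w * n := by group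
  obtain ⟨h1, -⟩ := twoNil_sub hAE (isPGroup_of_sq D.base_sq) hAmax hcent
  have hO : LocalBalance.core 2 E ≤ Cfsg.oddCore G := le_ocore_of_mod (core_odd E) fun g => by
    obtain ⟨o, ho, n, hn, rfl⟩ := hsplit g
    exact ⟨o, ho, n, LocalBalance.normalizer_le_normalizer_core E (hNE hn), rfl⟩
  intro g
  obtain ⟨o, ho, n, hn, rfl⟩ := hsplit g
  obtain ⟨Q, hQ⟩ := exists_sylow_eq hAE (isPGroup_of_sq D.base_sq) hAmax
  obtain ⟨c, hc⟩ := exists_cj_le Q (P := (cj n (base.map el)).subgroupOf E)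
    (((isPGroup_of_sq D.base_sq).map _).comap_subtype)
  have hcn : (c : G) * n ∈ normalizer (base.map el : Set G) := mem_normalizer_of_conj_mem fun a ha => by
    have hmem : n * a * n⁻¹ ∈ E := conj_mem_of_normalizer (hNE hn) (hAE ha)
    have := hc ((conj_mem_cj (g := c)).2 (show (⟨_, hmem⟩ : E) ∈ (cj n (base.map el)).subgroupOf E from
      conj_mem_cj.2 ha))
    rw [hQ, mem_subgroupOf] at this
    simpa [mul_assoc] using this
  obtain ⟨o', ho', a, ha, hca⟩ := h1 c c.2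
  have ha' : a⁻¹ ∈ normalizer (base.map el : Set G) := inv_mem (le_normalizer ha)
  refine ⟨o * (a⁻¹ * o'⁻¹ * a), mul_mem ho ?_, a⁻¹ * ((c : G) * n), mul_mem ha' hcn, ?_⟩
  · simpa using (ocore_normal (G := G)).conj_mem _ (inv_mem (hO ho')) a⁻¹
  · rw [hca]; group

end Cfg

end CfsgLib.A8Three
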