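import Cfsg.Agent.A8Three.Model

/-!
Orbits on the base and facts on `Alt(5)`.
-/

set_option autoImplicit false
set_option linter.style.longLine false
set_option maxRecDepth 100000

namespace CfsgLib.A8Three

/-- A weight two vector fixed by the translation. -/
def pe (p : Fin 4) : Fin 16 := ![0, 3, 5, 9] p

theorem pe_spec : ∀ p : Fin 4, p ≠ 0 → sh p (pe p) = pe p ∧ pe p ≠ 0 ∧ pe p ≠ 15 := by decide +kernel

theorem pe_cover : ∀ q : Fin 4, q ≠ 0 → ∀ d : Fin 16, sh q d = d → d ≠ 0 → d ≠ 15 → ∃ r, d = sh r (pe q) := by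
  decide +kernel

theorem pe_comm : ∀ p : Fin 4, (⟨pe p, 0⟩ : T) * ⟨0, p⟩ = ⟨0, p⟩ * ⟨pe p, 0⟩ := by decide +kernel

theorem comm_out : ∀ b d : Fin 16, ∀ q : Fin 4, (⟨d, 0⟩ : T) * ⟨b, q⟩ = ⟨b, q⟩ * ⟨d, 0⟩ → sh q d = d := by
  decide +kernel

theorem kinds : ∀ a : Fin 16, a ≠ 0 → a = 15 ∨ ∃ r : Fin 4, a = sh r 1 ∨ a = sh r (pe 1) ∨ a = sh r (pe 2) ∨
    a = sh r (pe 3) ∨ a = sh r 7 := by decide +kernel

/-- The union of kinds selected by three truth values. -/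
def sel (c1 c2 c3 : Bool) (a : Fin 16) : Bool :=
  if a = 15 then true else if a = 0 then false else if ev a then c2 else if big a then c3 else c1

/-- The union of kinds avoiding the centre. -/
def sel' (c1 c2 c3 : Bool) (a : Fin 16) : Bool :=
  if a = 15 then false else if a = 0 then false else if ev a then c2 else if big a then c3 else c1

theorem sel_count : ∀ c1 c2 c3 : Bool, (Finset.univ.filter fun a => sel c1 c2 c3 a = true).card % 5 = 0 →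
    ((c1 = true ∧ c2 = false ∧ c3 = false) ∨ (c1 = false ∧ c2 = false ∧ c3 = true) ∨
      (c1 = true ∧ c2 = true ∧ c3 = true)) := by decide +kernel

theorem sel_count' : ∀ c1 c2 c3 : Bool, (Finset.univ.filter fun a => sel' c1 c2 c3 a = true).card % 5 = 0 →
    c2 = true → c3 = false → c1 = true := by decide +kernel

theorem sh_kinds : ∀ r : Fin 4, sh r 15 = 15 ∧ (ev (sh r 1) = false ∧ big (sh r 1) = false ∧ sh r 1 ≠ 0 ∧ sh r 1 ≠ 15) ∧
    (ev (sh r 7) = false ∧ big (sh r 7) = true ∧ sh r 7 ≠ 0 ∧ sh r 7 ≠ 15) ∧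
    (∀ p : Fin 4, p ≠ 0 → ev (sh r (pe p)) = true ∧ big (sh r (pe p)) = false ∧ sh r (pe p) ≠ 0 ∧ sh r (pe p) ≠ 15) ∧
    big 15 = true := by decide +kernel

theorem flip_zz : flipW zz = zz := by decide +kernel

theorem flip_base : ∀ x : T, (flipW x).p = x.p := by decide +kernel

theorem flip_kinds : flipW ⟨7, 0⟩ = ⟨8, 0⟩ ∧ flipW ⟨1, 0⟩ = ⟨14, 0⟩ ∧ flipW ⟨3, 0⟩ = ⟨3, 0⟩ := by decide +kernel

theorem base_normal : ∀ x y : T, x.p = 0 → (y * x * y⁻¹).p = 0 := by decide +kernel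

theorem out_move : ∀ p : Fin 4, p ≠ 0 → ∃ a : Fin 16, (⟨0, p⟩ : T) * ⟨a, 0⟩ ≠ ⟨a, 0⟩ * ⟨0, p⟩ := by decide +kernel

theorem out_sq : ∀ x : T, x.p ≠ 0 → x * x = 1 → ty x = 3 := by decide +kernel

theorem base_kinds : ∀ a : Fin 16, (ty ⟨a, 0⟩ = 1 ↔ a ≠ 0 ∧ big a = true) ∧ (ty ⟨a, 0⟩ = 2 ↔ a ≠ 0 ∧ big a = false) := by
  decide +kernel

/-- A proposition constant along a fixed-point-free relation on three points is constant. -/
theorem conn {P : Fin 4 → Prop} (h : ∀ p, p ≠ 0 → ∃ q, q ≠ 0 ∧ q ≠ p ∧ (P p ↔ P q)) :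
    (P 1 ↔ P 2) ∧ (P 2 ↔ P 3) := by
  obtain ⟨a, ha, ha', e1⟩ := h 1 (by decide)
  obtain ⟨b, hb, hb', e2⟩ := h 2 (by decide)
  obtain ⟨c, hc, hc', e3⟩ := h 3 (by decide)
  fin_cases a <;> simp_all <;> fin_cases b <;> simp_all <;> fin_cases c <;> simp_all

/-- Four group in `Alt(5)`. -/
def v5 (k : Fin 4) : Equiv.Perm (Fin 5) :=
  ![1, Equiv.swap 0 1 * Equiv.swap 2 3, Equiv.swap 0 2 * Equiv.swap 1 3, Equiv.swap 0 3 * Equiv.swap 1 2] k

theorem v5_even : ∀ k, Equiv.Perm.sign (v5 k) = 1 := by decide +kernel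

theorem v5_mul : ∀ j k, v5 j * v5 k = v5 (j ^^^ k) := by decide +kernel

theorem v5_rot : ∀ k : Fin 4, k ≠ 0 →
    (Equiv.swap 0 1 * Equiv.swap 1 2) * v5 k * (Equiv.swap 0 1 * Equiv.swap 1 2 : Equiv.Perm (Fin 5))⁻¹ ≠ v5 k ∧
    ∃ j, (Equiv.swap 0 1 * Equiv.swap 1 2) * v5 k * (Equiv.swap 0 1 * Equiv.swap 1 2 : Equiv.Perm (Fin 5))⁻¹ = v5 j := by
  decide +kernel

theorem v5_inj : ∀ j k, v5 j = v5 k → j = k := by decide +kernel

theorem v5_inv : ∀ j, (v5 j)⁻¹ = v5 j := by decide +kernel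

/-- Every Sylow 2-subgroup of `Alt(5)` has an element of its normalizer moving all its involutions. -/
theorem alt5_rot (P : Sylow 2 (alternatingGroup (Fin 5))) :
    ∃ g ∈ Subgroup.normalizer ((P : Subgroup (alternatingGroup (Fin 5))) : Set (alternatingGroup (Fin 5))),
      ∀ s ∈ (P : Subgroup (alternatingGroup (Fin 5))), s ≠ 1 → g * s * g⁻¹ ≠ s := by
  have : Fact (Nat.Prime 2) := ⟨Nat.prime_two⟩
  let V : Subgroup (alternatingGroup (Fin 5)) :=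
    { carrier := {σ | ∃ k, (σ : Equiv.Perm (Fin 5)) = v5 k}
      one_mem' := ⟨0, rfl⟩
      mul_mem' := fun {x y} ⟨j, hj⟩ ⟨k, hk⟩ => ⟨j ^^^ k, by rw [Subgroup.coe_mul, hj, hk, v5_mul]⟩
      inv_mem' := fun {x} ⟨j, hj⟩ => ⟨j, by rw [Subgroup.coe_inv, hj, v5_inv]⟩ }
  let w : Fin 4 → V := fun k => ⟨⟨v5 k, Equiv.Perm.mem_alternatingGroup.2 (v5_even k)⟩, k, rfl⟩
  have hw : Function.Bijective w := ⟨fun j k h => v5_inj j k (congrArg (fun v : V => ((v : alternatingGroup (Fin 5)) : Equiv.Perm (Fin 5))) h),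
    fun ⟨σ, k, hk⟩ => ⟨k, Subtype.ext (Subtype.ext hk.symm)⟩⟩
  have hV : Nat.card V = 4 := by rw [← Nat.card_congr (Equiv.ofBijective w hw)]; simp
  have h60 : Nat.card (alternatingGroup (Fin 5)) = 60 := by
    rw [nat_card_alternatingGroup, Nat.card_fin]; decide
  obtain ⟨Q, hQ⟩ := (IsPGroup.of_card (n := 2) hV : IsPGroup 2 V).exists_le_sylow
  have hQV : V = Q := Subgroup.eq_of_le_of_card_ge hQ (by
    obtain ⟨k, hk⟩ := Q.2.exists_card_eq
    have h2 : 2 ^ k ∣ 60 := hk ▸ h60 ▸ (Q : Subgroup (alternatingGroup (Fin 5))).card_subgroup_dvd_card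
    have h3 : k ≤ 2 := by
      by_contra h
      have := (pow_dvd_pow 2 (show 3 ≤ k by omega)).trans h2
      norm_num at this
    rw [hV, hk]
    exact le_trans (Nat.pow_le_pow_right (by norm_num) h3) (by norm_num))
  obtain ⟨h, hh⟩ := MulAction.exists_smul_eq (alternatingGroup (Fin 5)) Q P
  have hP : ∀ s, s ∈ (P : Subgroup (alternatingGroup (Fin 5))) ↔ h⁻¹ * s * h ∈ V := fun s => by
    rw [← hh, hQV, Sylow.coe_subgroup_smul, Subgroup.mem_pointwise_smul_iff_inv_smul_mem]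
    simp [MulAut.smul_def]
  let c : alternatingGroup (Fin 5) := ⟨Equiv.swap 0 1 * Equiv.swap 1 2, Equiv.Perm.mem_alternatingGroup.2 (by decide)⟩
  have hc : ∀ s ∈ V, c * s * c⁻¹ ∈ V ∧ (s ≠ 1 → c * s * c⁻¹ ≠ s) := by
    rintro s ⟨k, hk⟩
    by_cases hk0 : k = 0
    · have : s = 1 := Subtype.ext (by rw [hk, hk0]; rfl)
      subst this
      exact ⟨by simp, fun h => absurd rfl h⟩
    obtain ⟨h1, j, h2⟩ := v5_rot k hk0
    have e : ((c * s * c⁻¹ : alternatingGroup (Fin 5)) : Equiv.Perm (Fin 5)) =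
        (Equiv.swap 0 1 * Equiv.swap 1 2) * v5 k * (Equiv.swap 0 1 * Equiv.swap 1 2 : Equiv.Perm (Fin 5))⁻¹ := by
      rw [Subgroup.coe_mul, Subgroup.coe_mul, Subgroup.coe_inv, hk]
    exact ⟨⟨j, e.trans h2⟩, fun _ hh => h1 (e.symm.trans ((congrArg Subtype.val hh).trans hk))⟩
  have hcn : ∀ s, s ∈ (P : Subgroup (alternatingGroup (Fin 5))) → h * c * h⁻¹ * s * (h * c * h⁻¹)⁻¹ ∈ (P : Subgroup (alternatingGroup (Fin 5))) ∧
      (s ≠ 1 → h * c * h⁻¹ * s * (h * c * h⁻¹)⁻¹ ≠ s) := by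
    intro s hs
    obtain ⟨h1, h2⟩ := hc _ ((hP s).1 hs)
    refine ⟨(hP _).2 (by simpa [mul_assoc] using h1), fun hs1 e => h2 (fun e1 => hs1 ?_) ?_⟩
    · calc s = h * (h⁻¹ * s * h) * h⁻¹ := by group
        _ = 1 := by rw [e1]; group
    · conv_rhs => rw [← e]
      group
  refine ⟨h * c * h⁻¹, Subgroup.mem_normalizer_iff_map_conj_eq.2 (Subgroup.eq_of_le_of_card_ge ?_ ?_), fun s hs => (hcn s hs).2⟩
  · rintro _ ⟨s, hs, rfl⟩
    exact (hcn s hs).1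
  · rw [Subgroup.card_map_of_injective (MulAut.conj _).injective]

end CfsgLib.A8Three
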