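import Cfsg.Agent.A8Three.Data

/-!
The elementary abelian subgroup of order sixteen is normal modulo the core.
-/

set_option autoImplicit false
set_option linter.unusedSectionVars false
set_option linter.style.haveILetI false

namespace CfsgLib.A8Three

open Subgroup CfsgLib.SylL34

variable {G : Type*} [Group G] [Finite G]

theorem exists_ready (S : Sylow 2 G) (P : Sylow 2 (alternatingGroup (Fin 8)))
    (hS : Nonempty (↥(S : Subgroup G) ≃* ↥(P : Subgroup ↥(alternatingGroup (Fin 8)))))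
    (h3 : Nat.card {c : ConjClasses G // ∃ x ∈ c.carrier, orderOf x = 2} = 3)
    (A : Subgroup G) (hA : Cfsg.IsElementaryAbelian 2 A) (hA16 : Nat.card ↥A = 16)
    (N : Subgroup G) (hN : N = Subgroup.normalizer (A : Set G))
    (hNA : ∃ (_ : (A.subgroupOf N ⊔ Cfsg.oddCore ↥N).Normal),
      Nonempty (↥N ⧸ (A.subgroupOf N ⊔ Cfsg.oddCore ↥N) ≃* ↥(alternatingGroup (Fin 5)))) :
    Ready A := by
  classical
  have : Fact (Nat.Prime 2) := ⟨Nat.prime_two⟩
  have : Fact (Nat.Prime 5) := ⟨by norm_num⟩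
  obtain ⟨e₁⟩ := hS
  obtain ⟨e₀⟩ := nonempty_sylow P
  have hsqA : ∀ a ∈ A, a * a = 1 := fun a ha => by rw [← sq]; exact hA.2 a ha
  -- a Sylow subgroup containing `A`, with coordinates
  obtain ⟨S', hAS⟩ := (isPGroup_of_sq hsqA).exists_le_sylow
  set el : T →* G := (S' : Subgroup G).subtype.comp ((e₀.trans e₁.symm).trans (S.equiv S')).toMonoidHom with heldef
  have hinj : Function.Injective el := Subtype.val_injective.comp ((e₀.trans e₁.symm).trans (S.equiv S')).injective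
  have hrange : el.range = (S' : Subgroup G) := by
    rw [heldef, MonoidHom.range_comp, MonoidHom.range_eq_top.2 (MulEquiv.surjective _), ← MonoidHom.range_eq_map,
      range_subtype]
  have hbase : base.map el = A := by
    have hle : A.comap el ≤ base := by
      intro x hx
      show x.p = 0
      by_contra hp
      have hxx : x * x = 1 := hinj (by rw [map_mul, map_one]; exact hsqA _ hx)
      have hf := out_few x (out_sq x hp hxx)
      rw [← card_filter] at hf
      refine absurd hf (not_lt.2 ?_)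
      rw [← hA16]
      have hex : ∀ a : A, ∃ w : T, el w = (a : G) := fun a => by
        have h := hAS a.2
        rwa [← hrange] at h
      choose w hw using hex
      refine Nat.card_le_card_of_injective
        (fun a => (⟨w a, hinj (by rw [map_mul, map_one, hw]; exact hsqA _ a.2),
          hinj (by rw [map_mul, map_mul, hw]; exact comm_of_sq hsqA a.2 hx)⟩ : {v : T // v * v = 1 ∧ v * x = x * v})) ?_
      intro a b h
      refine Subtype.ext ?_
      rw [← hw a, ← hw b]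
      exact congrArg el (congrArg Subtype.val h)
    have hA' : A ≤ base.map el := fun a ha => by
      obtain ⟨x, rfl⟩ : ∃ x, el x = a := by
        have h := hAS ha
        rwa [← hrange] at h
      exact mem_map_of_mem el (hle ha)
    refine (eq_of_le_of_card_ge hA' ?_).symm
    rw [hA16, card_map_of_injective hinj,
      Nat.card_congr (Equiv.ofBijective (fun x : base => (x : T).a)
        ⟨fun x y h => Subtype.ext (T.ext h (x.2.trans y.2.symm)), fun a => ⟨⟨⟨a, 0⟩, rfl⟩, rfl⟩⟩)]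
    simp
  have hnorm : (S' : Subgroup G) ≤ normalizer (A : Set G) := fun s hs => mem_normalizer_of_conj_mem fun a ha => by
    rw [← hbase] at ha ⊢
    obtain ⟨x, hx, rfl⟩ := ha
    obtain ⟨y, rfl⟩ : ∃ y, el y = s := by rwa [← hrange] at hs
    exact ⟨y * x * y⁻¹, base_normal x y hx, by simp⟩
  have D : Pre S' el A := ⟨hinj, hrange, hbase, hnorm⟩
  -- the action of the normalizer
  subst hN
  obtain ⟨hKn, ⟨e⟩⟩ := hNA
  set N := normalizer (A : Set G)
  set K := A.subgroupOf N ⊔ Cfsg.oddCore N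
  set f : N →* alternatingGroup (Fin 5) := e.toMonoidHom.comp (QuotientGroup.mk' K)
  have hf : Function.Surjective f := e.surjective.comp (QuotientGroup.mk'_surjective K)
  have hker : ∀ k : N, f k = 1 → ∀ a ∈ A, (k : G) * a = a * k := by
    intro k hk a ha
    have hk' : k ∈ K := (QuotientGroup.eq_one_iff k).1 (e.map_eq_one_iff.1 hk)
    have hle : K ≤ centralizer (A.subgroupOf N : Set N) := by
      refine sup_le (fun b hb => mem_centralizer_iff.2 fun c hc => Subtype.ext (comm_of_sq hsqA hc hb)) ?_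
      intro o ho
      refine mem_centralizer_iff.2 fun c hc => ?_
      have h1 : o * c * o⁻¹ * c⁻¹ ∈ A.subgroupOf N :=
        mul_mem ((mem_normalizer_iff.1 o.2 (c : G)).1 hc) (inv_mem hc)
      have h2 : o * c * o⁻¹ * c⁻¹ ∈ Cfsg.oddCore N := by
        rw [show o * c * o⁻¹ * c⁻¹ = o * (c * o⁻¹ * c⁻¹) by group]
        exact mul_mem ho (ocore_normal.conj_mem _ (inv_mem ho) c)
      have h4 : o * c * o⁻¹ * c⁻¹ * (o * c * o⁻¹ * c⁻¹) = 1 := Subtype.ext (hsqA _ h1)
      have h5 : o * c * o⁻¹ * c⁻¹ = 1 := eq_one_of_sq_odd h4 (odd_orderOf_of_mem ocore_odd h2)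
      exact (mul_inv_eq_iff_eq_mul.1 (mul_inv_eq_one.1 h5)).symm
    exact (congrArg Subtype.val (mem_centralizer_iff.1 (hle hk') ⟨a, le_normalizer ha⟩ ha)).symm
  have hout : ∀ p : Fin 4, p ≠ 0 → ∀ b : Fin 16, f ⟨el ⟨b, p⟩, hnorm (D.mem_S _)⟩ ≠ 1 := by
    intro p hp b h
    refine hp (base_self (⟨b, p⟩ : T) fun y hy => hinj ?_)
    rw [map_mul, map_mul]
    exact hker _ h _ (hbase ▸ mem_map_of_mem el hy)
  -- an element of order five modulo the kernel
  obtain ⟨g₅, hg₅⟩ := exists_prime_orderOf_dvd_card' (G := alternatingGroup (Fin 5)) 5 (by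
    rw [nat_card_alternatingGroup, Nat.card_fin]; decide)
  obtain ⟨n₅, hn₅⟩ := hf g₅
  have h5 : ∀ a ∈ A, (n₅ : G) ^ 5 * a = a * (n₅ : G) ^ 5 := fun a ha => by
    have := hker (n₅ ^ 5) (by rw [map_pow, hn₅]; exact orderOf_dvd_iff_pow_eq_one.1 (by rw [hg₅])) a ha
    rwa [SubgroupClass.coe_pow] at this
  have hnt : ∃ a ∈ A, (n₅ : G) * a ≠ a * n₅ := by
    by_contra! h
    set C := (centralizer (A : Set G)).subgroupOf N
    have hCn : C.Normal := (normal_subgroupOf_iff_le_normalizer (centralizer_le_normalizer _)).2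
      (LocalBalance.normalizer_le_normalizer_centralizer A)
    have hg : g₅ ∈ C.map f := ⟨n₅, mem_centralizer_iff.2 fun a ha => (h a ha).symm, hn₅⟩
    rcases IsSimpleGroup.eq_bot_or_eq_top_of_normal (C.map f) (hCn.map f hf) with h' | h'
    · rw [h', mem_bot] at hg
      rw [hg, orderOf_one] at hg₅
      norm_num at hg₅
    · obtain ⟨a, ha⟩ := out_move 1 (by decide)
      obtain ⟨c, hc, hce⟩ := (h' ▸ mem_top (f ⟨el ⟨0, 1⟩, hnorm (D.mem_S _)⟩) :
        f ⟨el ⟨0, 1⟩, hnorm (D.mem_S _)⟩ ∈ C.map f)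
      refine ha (hinj ?_)
      rw [map_mul, map_mul]
      have h1 := hker (c⁻¹ * ⟨el ⟨0, 1⟩, hnorm (D.mem_S _)⟩) (by rw [map_mul, map_inv, hce, inv_mul_cancel]) _ (D.mem_A a)
      push_cast at h1
      calc el ⟨0, 1⟩ * el ⟨a, 0⟩ = c * ((c : G)⁻¹ * el ⟨0, 1⟩ * el ⟨a, 0⟩) := by group
        _ = c * (el ⟨a, 0⟩ * ((c : G)⁻¹ * el ⟨0, 1⟩)) := by rw [h1]
        _ = c * el ⟨a, 0⟩ * (c : G)⁻¹ * el ⟨0, 1⟩ := by group
        _ = _ := by
          rw [show (c : G) * el ⟨a, 0⟩ = el ⟨a, 0⟩ * c from (mem_centralizer_iff.1 hc _ (D.mem_A a)).symm, mul_inv_cancel_right]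
  -- the rotation
  obtain ⟨g, hg, hmove⟩ := alt5_rot ((S'.subtype hnorm).mapSurjective hf)
  rw [Sylow.coe_mapSurjective] at hg hmove
  obtain ⟨n, hn, hng⟩ := sylow_lift f hf (S'.subtype hnorm) hg
  have hnS : (n : G) ∈ normalizer ((S' : Subgroup G) : Set G) := mem_normalizer_of_conj_mem fun x hx => by
    have := (mem_normalizer_iff.1 hn ⟨x, hnorm hx⟩).1 hx
    exact this
  have hrot : ∀ p : Fin 4, p ≠ 0 → ∃ b q, q ≠ 0 ∧ q ≠ p ∧ (n : G) * el ⟨0, p⟩ * (n : G)⁻¹ = el ⟨b, q⟩ := by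
    intro p hp
    obtain ⟨⟨b, q⟩, hy⟩ := D.exists_el (conj_mem_of_normalizer hnS (D.mem_S ⟨0, p⟩))
    have hne : q ≠ 0 := by
      rintro rfl
      have h1 : (n : G) * el ⟨0, p⟩ * (n : G)⁻¹ ∈ A := hy ▸ D.mem_A b
      have h2 := conj_mem_of_normalizer (inv_mem n.2) h1
      rw [show (n : G)⁻¹ * ((n : G) * el ⟨0, p⟩ * (n : G)⁻¹) * ((n : G)⁻¹)⁻¹ = el ⟨0, p⟩ by group] at h2
      exact hp (D.el_mem_A h2)
    refine ⟨b, q, hne, ?_, hy.symm⟩
    rintro rfl
    set s : N := ⟨el ⟨0, q⟩, hnorm (D.mem_S _)⟩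
    have hb : f ⟨el ⟨b, q⟩, hnorm (D.mem_S _)⟩ = f s := by
      have h1 : f ⟨el ⟨b, 0⟩, hnorm (D.mem_S _)⟩ = 1 := e.map_eq_one_iff.2
        ((QuotientGroup.eq_one_iff _).2 (mem_sup_left (D.mem_A b)))
      rw [show (⟨el ⟨b, q⟩, hnorm (D.mem_S _)⟩ : N) = ⟨el ⟨b, 0⟩, hnorm (D.mem_S _)⟩ * s from
        Subtype.ext (by show el ⟨b, q⟩ = el ⟨b, 0⟩ * el ⟨0, q⟩; rw [← map_mul, ← split ⟨b, q⟩]), map_mul, h1, one_mul]
    have hs : n * s * n⁻¹ = (⟨el ⟨b, q⟩, hnorm (D.mem_S _)⟩ : N) := Subtype.ext hy.symm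
    have h2 := congrArg f hs
    rw [map_mul, map_mul, map_inv, hb, hng] at h2
    exact hmove (f s) (mem_map_of_mem f (show s ∈ ((S'.subtype hnorm : Sylow 2 N) : Subgroup N) from D.mem_S _))
      (hout q hp 0) h2
  have hnN : (n : G) ∈ normalizer (A : Set G) := n.2
  -- the orbit of the centre
  have hsel : ∀ a, Orb el A 15 a ↔
      sel (decide (Orb el A 15 1)) (decide (Orb el A 15 (pe 1))) (decide (Orb el A 15 7)) a = true := fun a => by
    rw [D.orb_kinds hnN hnS hrot (by decide), sel]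
    simp only [Orb.rfl' el A 15]
    split_ifs <;> simp_all
  rcases sel_count _ _ _ (D.card_orb n₅.2 h5 hnt 15 (by decide) _ hsel) with
    ⟨c1, c2, c3⟩ | ⟨c1, c2, c3⟩ | ⟨c1, c2, c3⟩
  · -- change coordinates
    have D' := D.flipped
    have hrot' : ∀ p : Fin 4, p ≠ 0 → ∃ b q, q ≠ 0 ∧ q ≠ p ∧
        (n : G) * (el.comp flipW.toMonoidHom) ⟨0, p⟩ * (n : G)⁻¹ = (el.comp flipW.toMonoidHom) ⟨b, q⟩ := by
      intro p hp
      have h0 : flipW (⟨0, p⟩ : T) = ⟨0, p⟩ := by revert p; decide +kernel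
      obtain ⟨b, q, hq, hqp, h⟩ := hrot p hp
      obtain ⟨⟨b', q'⟩, hw⟩ := flipW.surjective ⟨b, q⟩
      obtain rfl : q' = q := (flip_base ⟨b', q'⟩).symm.trans (congrArg T.p hw)
      exact ⟨b', q', hq, hqp, by show _ * el (flipW ⟨0, p⟩) * _ = el (flipW ⟨b', q'⟩); rw [h0, hw, h]⟩
    obtain ⟨f7, f1, f3⟩ := flip_kinds
    have hiff : ∀ a c : Fin 16, flipW ⟨a, 0⟩ = ⟨c, 0⟩ →
        (Orb (el.comp flipW.toMonoidHom) A 15 a ↔ Orb el A 15 c) := fun a c h => by
      have hz : flipW (⟨15, 0⟩ : T) = ⟨15, 0⟩ := flip_zz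
      simp only [Orb, MonoidHom.comp_apply, MulEquiv.coe_toMonoidHom, hz, h]
    refine D'.ready_of_big hnN hnS hrot' n₅.2 h5 hnt h3 ((hiff 7 8 f7).2 ?_) fun h => ?_
    · exact (hsel 8).2 (by rw [c1, c2, c3]; decide +kernel)
    · have := (hsel 3).1 ((hiff 3 3 f3).1 h)
      rw [c1, c2, c3] at this
      exact absurd this (by decide +kernel)
  · exact D.ready_of_big hnN hnS hrot n₅.2 h5 hnt h3 (of_decide_eq_true c3)
      (of_decide_eq_false c2)
  · exfalso
    have hcl : ∀ x : T, ty x ≠ 0 → IsConj (el zz) (el x) ∨ x.p ≠ 0 := by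
      rintro ⟨a, p⟩ hx
      by_cases hp : p = 0
      · subst hp
        refine Or.inl ?_
        obtain ⟨m, -, hm⟩ := (hsel a).2 (by
          rw [c1, c2, c3]
          have : ∀ a : Fin 16, ty ⟨a, 0⟩ ≠ 0 → sel true true true a = true := by decide +kernel
          exact this a hx)
        exact isConj_iff.2 ⟨m, hm⟩
      · exact Or.inr hp
    obtain ⟨h12, h23⟩ := conn (P := fun p => IsConj (el ⟨0, 1⟩) (el ⟨0, p⟩)) fun p hp => by
      obtain ⟨b, q, hq, hqp, h⟩ := hrot p hp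
      refine ⟨q, hq, hqp, ?_⟩
      have hsq : (⟨b, q⟩ : T) * ⟨b, q⟩ = 1 := hinj (by
        rw [map_mul, map_one, ← h]
        exact conj_sq _ _ (by rw [← map_mul, tau_sq, map_one]))
      obtain ⟨c, hc⟩ := out_conj _ (out_sq _ hq hsq)
      have hpq : IsConj (el ⟨0, p⟩) (el ⟨0, q⟩) := (isConj_iff.2 ⟨(n : G), h⟩).trans
        (IsConj.symm (isConj_iff.2 ⟨el ⟨c, 0⟩, by rw [← map_inv, ← map_mul, ← map_mul, hc]⟩))
      exact ⟨fun h' => h'.trans hpq, fun h' => h'.trans hpq.symm⟩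
    let rep : Bool → T := fun b => if b then zz else ⟨0, 1⟩
    have hr2 : ∀ b, orderOf (el (rep b)) = 2 := by
      intro b
      refine order_two ?_ fun h => ?_
      · rw [← map_mul]; cases b <;> simp [rep, zz_sq, tau_sq, map_one]
      · have := hinj (h.trans (map_one el).symm)
        revert this
        cases b <;> decide +kernel
    have hsurj : Function.Surjective (fun b => (⟨ConjClasses.mk (el (rep b)), el (rep b), ConjClasses.mem_carrier_mk, hr2 b⟩ :
        {c : ConjClasses G // ∃ x ∈ c.carrier, orderOf x = 2})) := by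
      rintro ⟨c, x, hx, hx2⟩
      obtain ⟨g', hg'⟩ := exists_conj_mem S' (Invol.mul_self_eq_one hx2)
      obtain ⟨y, hy⟩ := D.exists_el hg'
      have hy1 : y * y = 1 := hinj (by rw [map_mul, map_one, hy]; exact conj_sq g' x (Invol.mul_self_eq_one hx2))
      have hxy : IsConj x (el y) := isConj_iff.2 ⟨g', hy.symm⟩
      have hfin : ∀ b, IsConj (el (rep b)) (el y) → ∃ b, (⟨ConjClasses.mk (el (rep b)), el (rep b),
          ConjClasses.mem_carrier_mk, hr2 b⟩ : {c : ConjClasses G // ∃ x ∈ c.carrier, orderOf x = 2}) =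
          ⟨c, x, hx, hx2⟩ := fun b h => ⟨b, Subtype.ext (by
        show ConjClasses.mk (el (rep b)) = c
        rw [← ConjClasses.mem_carrier_iff_mk_eq.1 hx, ConjClasses.mk_eq_mk_iff_isConj]
        exact h.trans hxy.symm)⟩
      by_cases hp : y.p = 0
      · have hy0 : ty y ≠ 0 := fun h0 => (ty_zero y h0).elim (fun h => Invol.ne_one hx2 (by
          rw [h, map_one, eq_comm, conj_eq_one_iff] at hy; exact hy)) fun h => h hy1
        exact hfin true ((hcl y hy0).resolve_right (not_not.2 hp))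
      · obtain ⟨c', hc'⟩ := out_conj y (out_sq y hp hy1)
        refine hfin false (IsConj.trans ?_ (isConj_iff.2 ⟨el ⟨c', 0⟩, by rw [← map_inv, ← map_mul, ← map_mul, hc']⟩))
        rcases (show ∀ p : Fin 4, p = 0 ∨ p = 1 ∨ p = 2 ∨ p = 3 by decide) y.p with h | h | h | h <;> rw [h]
        · exact absurd h hp
        · exact IsConj.refl _
        · exact h12.1 (IsConj.refl _)
        · exact h23.1 (h12.1 (IsConj.refl _))
    have := Nat.card_le_card_of_surjective _ hsurj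
    rw [h3, Nat.card_eq_fintype_card, Fintype.card_bool] at this
    omega

/-- The subgroup is normal modulo the core. -/
theorem base_sup_core_normal {A : Subgroup G} (h : Ready A) : (A ⊔ Cfsg.oddCore G).Normal := by
  obtain ⟨S, el, D, rfl, h₁, h₂⟩ := h
  exact D.normal h₁ h₂

end CfsgLib.A8Three
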